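import Cfsg.Agent.KSG.TwAutRee
import Cfsg.Agent.ReeG2.Base

/-!
# Outer automorphisms of ²G₂(q)
-/

set_option autoImplicit false

namespace Cfsg.Agent.KSG.TwAutG2

open Cfsg.Lie Cfsg.Agent.ChevGrp Cfsg.Agent.ChevTw Cfsg.Agent.KSG Cfsg.Agent.KSG.TwAut Cfsg.Agent.ReeG2

theorem tableG2 : (∀ r ∈ twG2.posList ⟨0, by decide⟩,
      act chevG2 (twG2.longSeq.flatMap (twG2.wJ chevG2)).reverse r ∈ (twG2.posList ⟨0, by decide⟩).map chevG2.neg) ∧
      ∀ r ∈ (twG2.posList ⟨0, by decide⟩).map chevG2.neg,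
        act chevG2 (twG2.longSeq.flatMap (twG2.wJ chevG2)) r ∈ twG2.posList ⟨0, by decide⟩ := by
  decide +kernel

theorem mem_posList : ∀ r < chevG2.nroots, chevG2.IsPosRoot r → r ∈ twG2.posList ⟨0, by decide⟩ := by
  decide +kernel

section

variable {K : Type*} [Field K] [Fintype K] {m : ℕ} (hK : Fintype.card K = 3 ^ (2 * m + 1))

/-- A unipotent element. -/
noncomputable def X (t u v : K) : ↥(grpG2 hK).Tw :=
  ⟨uEl K m t u v, (Subgroup.mem_inf.1 (uEl_mem K hK t u v)).2⟩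

/-- A torus element. -/
noncomputable def H (x : Kˣ) : ↥(grpG2 hK).Tw := ⟨tor K m x, tor_mem_Tw K hK x⟩

/-- The weight of the first coordinate. -/
def chi (m : ℕ) (x : Kˣ) : Kˣ := x ^ (2 - 3 * ((3 ^ m : ℕ) : ℤ))

/-- The weight of the second coordinate. -/
def chiU (m : ℕ) (x : Kˣ) : Kˣ := x ^ (3 * ((3 ^ m : ℕ) : ℤ) - 1)

theorem X_mul (t u v t' u' v' : K) :
    X hK t u v * X hK t' u' v' = X hK (t + t') (u + u' - (t' ^ (3 ^ m)) ^ 3 * t)
      (v + v' - (t' ^ (3 ^ m)) ^ 3 * t ^ 2 - t' * u + (t' ^ (3 ^ m)) ^ 3 * t * t') :=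
  Subtype.ext (uEl_mul K hK t u v t' u' v')

theorem X_inj {t u v t' u' v' : K} (e : X hK t u v = X hK t' u' v') : t = t' ∧ u = u' ∧ v = v' :=
  uEl_inj K hK (congrArg Subtype.val e)

theorem X_cube (t u v : K) : X hK t u v ^ 3 = X hK 0 0 (-((t ^ (3 ^ m)) ^ 3 * t ^ 2)) := by
  have := charG2 hK
  refine Subtype.ext ?_
  rw [Subgroup.coe_pow]
  exact reeEl_cube (GS K) (pow_twice hK) t u v

theorem X_zero : X hK 0 0 0 = 1 := Subtype.ext (uEl_one K hK)

theorem H_conj (x : Kˣ) (t u v : K) :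
    H hK x * X hK t u v * (H hK x)⁻¹ =
      X hK ((chi m x : K) * t) ((chiU m x : K) * u) ((x : K) * v) :=
  Subtype.ext (tor_conj_uEl K hK x t u v)

include hK in
theorem chi_injective : Function.Injective (chi m : Kˣ → Kˣ) := by
  intro x y e
  by_contra hne
  have h : tor K m (x * y⁻¹) * uEl K m 1 0 0 = uEl K m 1 0 0 * tor K m (x * y⁻¹) := by
    rw [← mul_inv_eq_iff_eq_mul, tor_conj_uEl K hK]
    rw [show ((x * y⁻¹) ^ (2 - 3 * ((3 ^ m : ℕ) : ℤ)) : Kˣ) = 1 by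
      rw [mul_zpow, inv_zpow]
      exact mul_inv_eq_one.2 e]
    simp
  exact one_ne_zero ((fix_cases K hK h).1 fun e' => hne (mul_inv_eq_one.1 e')).1

include hK in
theorem chi_surjective : Function.Surjective (chi m : Kˣ → Kˣ) :=
  Finite.injective_iff_surjective.1 (chi_injective hK)

omit [Fintype K] in
theorem chi_mul (x y : Kˣ) : chi m (x * y) = chi m x * chi m y := mul_zpow x y _

omit [Fintype K] in
theorem chi_neg_one : chi m (-1 : Kˣ) = -1 ∧ chiU m (-1 : Kˣ) = 1 := by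
  obtain ⟨k, hk⟩ : Odd ((3 ^ m : ℕ) : ℤ) := by exact_mod_cast Odd.pow (by decide)
  exact ⟨Odd.neg_one_zpow ⟨-(3 * k + 1), by omega⟩, Even.neg_one_zpow ⟨3 * k + 1, by omega⟩⟩

include hK in
theorem exists_not_cube (hm : 1 ≤ m) : ∃ a : K, a ^ 3 ≠ a := by
  classical
  by_contra hcon
  push Not at hcon
  have h3 : Fintype.card K ≤ 3 := by
    have hne : (Polynomial.X ^ 3 - Polynomial.X : Polynomial K) ≠ 0 := by
      intro h
      have := congrArg (Polynomial.coeff · 3) h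
      simp [Polynomial.coeff_X] at this
    have hsub : (Finset.univ : Finset K) ⊆ (Polynomial.X ^ 3 - Polynomial.X : Polynomial K).roots.toFinset :=
      fun a _ => by simp [Polynomial.mem_roots hne, hcon a]
    refine (Finset.card_le_card hsub).trans ((Multiset.toFinset_card_le _).trans
      ((Polynomial.card_roots' _).trans ?_))
    compute_degree
  rw [hK] at h3
  have : 3 ^ 3 ≤ 3 ^ (2 * m + 1) := Nat.pow_le_pow_right (by norm_num) (by omega)
  omega

include hK in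
theorem chi_root (hm : 1 ≤ m) : ∃ x : Kˣ, x ≠ 1 ∧ x * x ≠ 1 := by
  obtain ⟨a, ha⟩ := exists_not_cube hK hm
  have ha0 : a ≠ 0 := fun h => ha (by simp [h])
  refine ⟨Units.mk0 a ha0, fun h => ha ?_, fun h => ha ?_⟩
  · have h' : a = 1 := congrArg Units.val h
    simp [h']
  · have h' : a * a = 1 := congrArg Units.val h
    rw [pow_succ, pow_two, h', one_mul]

variable {len : ℕ → ℕ} (hR : RootTable chevG2 len)

theorem mem_UT_iff {g : ↥(grpG2 hK).Tw} : g ∈ UT (grpG2 hK) ↔ ∃ t u v, g = X hK t u v := by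
  rw [UT, Subgroup.mem_subgroupOf]
  constructor
  · intro h
    obtain ⟨t, u, v, e⟩ := (mem_U_iff K hK (g : GL chevG2.Idx K)).1
      (Subgroup.mem_inf.2 ⟨by rwa [posUnipotent_eq (ChevTw.rulesG2 K)], g.2⟩)
    exact ⟨t, u, v, Subtype.ext e⟩
  · rintro ⟨t, u, v, rfl⟩
    have h := (Subgroup.mem_inf.1 (uEl_mem K hK t u v)).1
    rwa [posUnipotent_eq (ChevTw.rulesG2 K)] at h

include hR in
theorem mem_HT_iff' {g : ↥(grpG2 hK).Tw} : g ∈ HT (grpG2 hK) ↔ ∃ x, g = H hK x := by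
  rw [HT, Subgroup.mem_subgroupOf]
  constructor
  · intro h
    have h' : (g : GL chevG2.Idx K) ∈ (tor K m).range := by
      rw [← diag_eq K hK, diagonalSubgroup_eq (ChevTw.rulesG2 K) hR]
      exact Subgroup.mem_inf.2 ⟨h, g.2⟩
    obtain ⟨x, hx⟩ := h'
    exact ⟨x, Subtype.ext hx.symm⟩
  · rintro ⟨x, rfl⟩
    exact tor_mem_diag K m x

theorem exists_fieldAut (σ : RingAut K) :
    ∃ φ : MulAut ↥(grpG2 hK).Tw, Normalised (grpG2 hK) φ ∧
      ∀ t u v, φ (X hK t u v) = X hK (σ t) (σ u) (σ v) := by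
  obtain ⟨e, he⟩ := exists_amb_field (ChevTw.rulesG2 K) σ
  obtain ⟨φ, hn, hφ⟩ := exists_field_aut (grpG2 hK) σ e (fun r _ t => he r t) fun r _ t => by
    show (σ t) ^ _ = σ (t ^ _)
    rw [map_pow]
  refine ⟨φ, hn, fun t u v => Subtype.ext ?_⟩
  rw [hφ]
  show e (uEl K m t u v) = uEl K m (σ t) (σ u) (σ v)
  simp only [uEl, reeEl, uSix, qPart, map_mul, he, map_add, map_pow]

/-- The field automorphisms. -/
noncomputable def Φ (σ : RingAut K) : MulAut ↥(grpG2 hK).Tw := (exists_fieldAut hK σ).choose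

theorem Φ_normalised (σ : RingAut K) : Normalised (grpG2 hK) (Φ hK σ) :=
  (exists_fieldAut hK σ).choose_spec.1

theorem Φ_X (σ : RingAut K) (t u v : K) : Φ hK σ (X hK t u v) = X hK (σ t) (σ u) (σ v) :=
  (exists_fieldAut hK σ).choose_spec.2 t u v

include hR in
/-- The scalars of an automorphism on the first coordinate. -/
theorem exists_coord {β : MulAut ↥(grpG2 hK).Tw} (hβ : Normalised (grpG2 hK) β) :
    ∃ σ : K → K, Function.Bijective σ ∧ (∀ s t, σ (s + t) = σ s + σ t) ∧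
      (∀ t u v, ∃ u' v', β (X hK t u v) = X hK (σ t) u' v') ∧
      ∀ x, ∃ y, β (H hK x) = H hK y ∧ ∀ t, σ ((chi m x : K) * t) = (chi m y : K) * σ t := by
  have h0 := twG2_ok.isLongest (T := twistG2 hK) (fun _ => rfl) rfl
  have h1 : ∀ t u v, ∃ t' u' v', β (X hK t u v) = X hK t' u' v' := fun t u v =>
    (mem_UT_iff hK).1 ((hβ.1 _).2 ((mem_UT_iff hK).2 ⟨t, u, v, rfl⟩))
  have hsym : ∀ t u v, ∃ t' u' v', β.symm (X hK t u v) = X hK t' u' v' := fun t u v =>
    (mem_UT_iff hK).1 (((Normalised.symm _ hβ).1 _).2 ((mem_UT_iff hK).2 ⟨t, u, v, rfl⟩))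
  have hcube : ∀ t u v, X hK t u v ^ 3 = 1 ↔ t = 0 := fun t u v => by
    rw [X_cube, ← X_zero hK]
    constructor
    · intro h
      simpa using (X_inj hK h).2.2
    · rintro rfl
      simp
  have hzero : ∀ t u v t' u' v', β (X hK t u v) = X hK t' u' v' → (t' = 0 ↔ t = 0) := by
    intro t u v t' u' v' e
    rw [← hcube t' u' v', ← hcube t u v, ← e, ← map_pow, EmbeddingLike.map_eq_one_iff]
  choose σ A B hσ using fun t => h1 t 0 0
  have hgen : ∀ t u v, ∃ u' v', β (X hK t u v) = X hK (σ t) u' v' := by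
    intro t u v
    have e : ∃ u₁ v₁, X hK t u v = X hK t 0 0 * X hK 0 u₁ v₁ := by
      refine ⟨u, v, ?_⟩
      rw [X_mul]
      simp
    obtain ⟨u₁, v₁, e⟩ := e
    obtain ⟨t', u', v', e'⟩ := h1 0 u₁ v₁
    obtain rfl : t' = 0 := (hzero 0 u₁ v₁ t' u' v' e').2 rfl
    rw [e, map_mul, hσ, e', X_mul, add_zero]
    exact ⟨_, _, rfl⟩
  have hadd : ∀ s t, σ (s + t) = σ s + σ t := fun s t => by
    have e := congrArg β (X_mul hK s 0 0 t 0 0)
    rw [map_mul, hσ, hσ, X_mul] at e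
    obtain ⟨u', v', e'⟩ := hgen (s + t) (0 + 0 - (t ^ (3 ^ m)) ^ 3 * s)
      (0 + 0 - (t ^ (3 ^ m)) ^ 3 * s ^ 2 - t * 0 + (t ^ (3 ^ m)) ^ 3 * s * t)
    rw [e'] at e
    exact (X_inj hK e).1.symm
  have h00 : σ 0 = 0 := by
    have := hadd 0 0
    rw [add_zero] at this
    exact left_eq_add.1 this
  have hbij : Function.Bijective σ := by
    refine Finite.injective_iff_bijective.1 fun s t e => ?_
    have hd : σ (s - t) = 0 := by
      have := hadd (s - t) t
      rw [sub_add_cancel, e] at this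
      exact right_eq_add.1 this
    exact sub_eq_zero.1 ((hzero _ 0 0 _ _ _ (hσ (s - t))).1 hd)
  refine ⟨σ, hbij, hadd, hgen, fun x => ?_⟩
  obtain ⟨y, hy⟩ := (mem_HT_iff' hK hR).1
    ((hβ.mem_HT (grpG2 hK) (ChevTw.rulesG2 K) hR h0 (H hK x)).2 ((mem_HT_iff' hK hR).2 ⟨x, rfl⟩))
  refine ⟨y, hy, fun t => ?_⟩
  have e := congrArg β (H_conj hK x t 0 0)
  obtain ⟨u', v', e'⟩ := hgen ((chi m x : K) * t) ((chiU m x : K) * 0) ((x : K) * 0)
  rw [map_mul, map_mul, map_inv, hy, hσ, H_conj, e'] at e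
  exact (X_inj hK e).1.symm

include hR in
/-- An automorphism trivial on the first coordinate and on the torus is trivial. -/
theorem eq_one_of_trivial (hm : 1 ≤ m) {β : MulAut ↥(grpG2 hK).Tw} (hβ : Normalised (grpG2 hK) β)
    (hH : ∀ x, β (H hK x) = H hK x) (ht : ∀ t u v, ∃ u' v', β (X hK t u v) = X hK t u' v') : β = 1 := by
  have h3 : (3 : K) = 0 := by
    have := charG2 hK
    exact_mod_cast CharP.cast_eq_zero K 3
  choose A B hA using ht
  -- equivariance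
  have heq : ∀ (x : Kˣ) (t u v : K), A ((chi m x : K) * t) ((chiU m x : K) * u) ((x : K) * v) = (chiU m x : K) * A t u v ∧
      B ((chi m x : K) * t) ((chiU m x : K) * u) ((x : K) * v) = (x : K) * B t u v := by
    intro x t u v
    have e := congrArg β (H_conj hK x t u v)
    rw [map_mul, map_mul, map_inv, hH, hA, H_conj, hA] at e
    exact ⟨(X_inj hK e).2.1.symm, (X_inj hK e).2.2.symm⟩
  have hfact : ∀ t u v, A t u v = A t 0 0 + A 0 u v ∧ B t u v = B t 0 0 + B 0 u v := by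
    intro t u v
    have e := congrArg β (show X hK t 0 0 * X hK 0 u v = X hK t u v by rw [X_mul]; simp)
    rw [map_mul, hA, hA, hA, X_mul] at e
    obtain ⟨-, e1, e2⟩ := X_inj hK e
    simp at e1 e2
    exact ⟨e1.symm, e2.symm⟩
  -- the centre is fixed
  have hC : ∀ v, A 0 0 v = 0 ∧ B 0 0 v = v := by
    intro v
    set c : K := -(((1 : K) ^ (3 ^ m)) ^ 3 * (1 : K) ^ 2) with hc
    have hc1 : c = -1 := by simp [hc]
    have e := congrArg β (X_cube hK 1 0 0)
    rw [map_pow, hA, hA, X_cube] at e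
    obtain ⟨-, e1, e2⟩ := X_inj hK e
    rw [← hc] at e1 e2
    rcases eq_or_ne v 0 with rfl | hv
    · have e0 := hA 0 0 0
      rw [X_zero, map_one, ← X_zero hK] at e0
      exact ⟨(X_inj hK e0).2.1.symm, (X_inj hK e0).2.2.symm⟩
    · obtain ⟨h1, h2⟩ := heq (Units.mk0 (-v) (neg_ne_zero.2 hv)) 0 0 c
      simp only [mul_zero, Units.val_mk0, hc1, mul_neg, mul_one, neg_neg] at h1 h2
      rw [hc1] at e1 e2
      rw [← e1, mul_zero] at h1
      rw [← e2] at h2
      exact ⟨h1, by rw [h2]; ring⟩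
  have hU : ∀ u, A 0 u 0 = u ∧ B 0 u 0 = 0 := by
    intro u
    have hB : B 0 u 0 = 0 := by
      obtain ⟨-, h2⟩ := heq (-1) 0 u 0
      rw [chi_neg_one.2] at h2
      simp only [mul_zero, Units.val_one, one_mul, Units.val_neg] at h2
      linear_combination (-1 : K) * h2 + B 0 u 0 * h3
    refine ⟨?_, hB⟩
    have e := congrArg β (show X hK 0 u 0 * X hK 1 0 0 = X hK 1 0 0 * X hK 0 u 0 * X hK 0 0 (-u) by
      rw [X_mul, X_mul, X_mul]; simp)
    rw [map_mul, map_mul, map_mul, hA, hA, hA, (hC (-u)).1, (hC (-u)).2, hB, X_mul, X_mul, X_mul] at e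
    obtain ⟨-, -, e2⟩ := X_inj hK e
    simp at e2
    linear_combination (-1 : K) * e2
  have hAB : ∀ u v, A 0 u v = u ∧ B 0 u v = v := by
    intro u v
    have e := congrArg β (show X hK 0 u 0 * X hK 0 0 v = X hK 0 u v by rw [X_mul]; simp)
    rw [map_mul, hA, hA, hA, (hC v).1, (hC v).2, (hU u).1, (hU u).2, X_mul] at e
    obtain ⟨-, e1, e2⟩ := X_inj hK e
    simp at e1 e2
    exact ⟨e1.symm, e2.symm⟩
  -- additivity of the corrections
  have hprod : ∀ s t, A (s + t) 0 0 = A s 0 0 + A t 0 0 ∧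
      B (s + t) 0 0 = B s 0 0 + B t 0 0 - t * A s 0 0 := by
    intro s t
    have e := congrArg β (X_mul hK s 0 0 t 0 0)
    rw [map_mul, hA, hA, hA, X_mul] at e
    obtain ⟨-, e1, e2⟩ := X_inj hK e
    rw [(hfact (s + t) _ _).1, (hAB _ _).1] at e1
    rw [(hfact (s + t) _ _).2, (hAB _ _).2] at e2
    constructor
    · linear_combination (-1 : K) * e1
    · linear_combination (-1 : K) * e2
  have hA0 : ∀ t, A t 0 0 = 0 := by
    intro t
    obtain ⟨h1, -⟩ := heq (-1) t 0 0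
    rw [chi_neg_one.1, chi_neg_one.2] at h1
    simp only [Units.val_neg, Units.val_one, neg_mul, one_mul, mul_zero] at h1
    have h2 := (hprod t (-t)).1
    rw [add_neg_cancel, (hC 0).1, h1] at h2
    linear_combination h2 + A t 0 0 * h3
  have hB0 : ∀ t, B t 0 0 = 0 := by
    have hBadd : ∀ s t, B (s + t) 0 0 = B s 0 0 + B t 0 0 := fun s t => by
      rw [(hprod s t).2, hA0 s, mul_zero, sub_zero]
    set d := B 1 0 0 with hd
    have hy : ∀ a : Kˣ, B (a : K) 0 0 = ((a : K) ^ (3 * 3 ^ m) * (a : K) ^ 2) * d := by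
      intro a
      obtain ⟨x, rfl⟩ := chi_surjective hK a
      have hx : chi m x ^ (3 * 3 ^ m) * chi m x ^ 2 = x := by
        have hq : x ^ (3 * ((3 ^ m : ℕ) : ℤ) * ((3 ^ m : ℕ) : ℤ)) = x := by
          rw [show (3 : ℤ) * ((3 ^ m : ℕ) : ℤ) * ((3 ^ m : ℕ) : ℤ) = ((3 * 3 ^ m * 3 ^ m : ℕ) : ℤ) by
            push_cast; ring, zpow_natCast, ReeG2.unit_pow_q K hK]
        have e1 : chi m x ^ (3 * 3 ^ m) * chi m x ^ 2 =
            x ^ ((2 - 3 * ((3 ^ m : ℕ) : ℤ)) * (2 + 3 * ((3 ^ m : ℕ) : ℤ))) := by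
          rw [← pow_add, ← zpow_natCast, chi, ← zpow_mul]
          congr 1
          push_cast
          ring
        rw [e1, show ((2 : ℤ) - 3 * ((3 ^ m : ℕ) : ℤ)) * (2 + 3 * ((3 ^ m : ℕ) : ℤ)) =
          1 + (3 * ((3 ^ m : ℕ) : ℤ) * ((3 ^ m : ℕ) : ℤ) - 1) * (-3) by ring, zpow_add, zpow_one, zpow_mul,
          zpow_sub, hq, zpow_one, mul_inv_cancel, one_zpow, mul_one]
      obtain ⟨-, h2⟩ := heq x 1 0 0
      rw [mul_one, mul_zero, mul_zero] at h2
      rw [h2, hd, ← Units.val_pow_eq_pow_val, ← Units.val_pow_eq_pow_val, ← Units.val_mul, hx]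
    have hy' : ∀ a : K, B a 0 0 = (a ^ (3 * 3 ^ m) * a ^ 2) * d := fun a => by
      rcases eq_or_ne a 0 with rfl | ha
      · rw [(hC 0).2]
        simp
      · exact hy (Units.mk0 a ha)
    obtain ⟨a, ha⟩ := exists_not_cube hK hm
    have hd0 : d = 0 := by
      by_contra hd0
      refine ha ?_
      have e := hBadd a 1
      rw [hy', hy', hy', one_pow, one_pow, one_mul, one_mul] at e
      have := charG2 hK
      have : Fact (Nat.Prime 3) := ⟨Nat.prime_three⟩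
      set y := a ^ (3 * 3 ^ m) with hy0
      have hy1 : (a + 1) ^ (3 * 3 ^ m) = y + 1 := by
        rw [hy0, show 3 * 3 ^ m = 3 ^ (m + 1) by rw [pow_succ, mul_comm], add_pow_char_pow, one_pow]
      rw [hy1] at e
      have e' : (y + 1) * (a + 1) ^ 2 = y * a ^ 2 + 1 :=
        mul_right_cancel₀ hd0 (by linear_combination e)
      have ha1 : a ≠ 1 := fun h => ha (by simp [h])
      have hya : y = a := by
        refine mul_right_cancel₀ (sub_ne_zero.2 (Ne.symm ha1)) ?_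
        linear_combination e' - (y * a + a) * h3
      have h9 : a ^ 3 = (y ^ (3 * 3 ^ m)) := by
        rw [hy0, ← pow_mul, show 3 * 3 ^ m * (3 * 3 ^ m) = 3 * 3 ^ m * 3 ^ m * 3 by ring, pow_mul,
          pow_twice hK]
      rw [h9, hya, ← hy0, hya]
    intro t
    rw [hy' t, hd0, mul_zero]
  have hfix : ∀ t u v, β (X hK t u v) = X hK t u v := fun t u v => by
    rw [hA, (hfact t u v).1, (hfact t u v).2, (hAB u v).1, (hAB u v).2, hA0, hB0, zero_add, zero_add]
  -- the negative part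
  have h0 := twG2_ok.isLongest (T := twistG2 hK) (fun _ => rfl) rfl
  have hν : ∀ J, (∀ r ∈ (orbG2 hK).negJ J,
      act chevG2 ((orbG2 hK).word twG2.longSeq) r ∈ (orbG2 hK).posJ J) ∧
      ∀ r ∈ (orbG2 hK).posJ J,
        act chevG2 ((orbG2 hK).word twG2.longSeq).reverse r ∈ (orbG2 hK).negJ J := fun J => by
    obtain rfl : J = ⟨0, by decide⟩ := Subsingleton.elim (α := Fin 1) _ _
    have ep := twG2_ok.enum_posJ (T := twistG2 hK) (fun _ => rfl) rfl ⟨0, by decide⟩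
    have en := twG2_ok.enum_negJ (T := twistG2 hK) (fun _ => rfl) rfl hR ⟨0, by decide⟩
    exact ⟨fun r hr => (ep.2 _).1 (tableG2.2 r ((en.2 r).2 hr)),
      fun r hr => (en.2 _).1 (tableG2.1 r ((ep.2 r).2 hr))⟩
  obtain ⟨π, hπ⟩ := exists_perm (grpG2 hK) (ChevTw.rulesG2 K) hR h0 hν hβ
  have hXP : ∀ J, ∀ g ∈ XP (grpG2 hK) J, β g = g := fun J g hg => by
    obtain ⟨t, u, v, rfl⟩ := (mem_UT_iff hK).1 (XP_le_UT _ J hg)
    exact hfix t u v
  refine aut_ext_XP (grpG2 hK) (fun J g hg => hXP J g hg) fun J g hg => ?_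
  have hπJ : π J = J := Subsingleton.elim (α := Fin 1) _ _
  refine fix_XN (grpG2 hK) (ChevTw.rulesG2 K) hR h0 hβ J (fun g => ?_) (fun g => ?_) (hXP J) (fun h hh => ?_)
    (fun c hc hfree => ?_) hg
  · simpa [hπJ] using (hπ J g).2.2
  · simpa [hπJ] using (hπ J g).2.1
  · obtain ⟨x, rfl⟩ := (mem_HT_iff' hK hR).1 hh
    exact hH x
  · obtain ⟨t, u, v, rfl⟩ := (mem_UT_iff hK).1 (XP_le_UT _ J hc)
    obtain ⟨x, hx1, hx2⟩ := chi_root hK hm
    have e := congrArg Subtype.val (hfree (H hK x) ((mem_HT_iff' hK hR).2 ⟨x, rfl⟩))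
    obtain ⟨h1, h2⟩ := fix_cases K hK (x := x) (t := t) (u := u) (v := v) (mul_inv_eq_iff_eq_mul.1 e)
    rw [(h1 hx1).1, h2 hx2, (h1 hx1).2, X_zero]

include hR in
theorem card_out (hm : 1 ≤ m) : Nat.card (Cfsg.Out ↥(grpG2 hK).Tw) = 2 * m + 1 := by
  have := charG2 hK
  have : Fact (Nat.Prime 3) := ⟨Nat.prime_three⟩
  have h0 := twG2_ok.isLongest (T := twistG2 hK) (fun _ => rfl) rfl
  rw [card_out_of_field (grpG2 hK) (ChevTw.rulesG2 K) hR h0 (fun a b h => h) (Φ hK) (Φ_normalised hK) ?_ ?_,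
    Aut.card_ringAut (p := 3) hK]
  · intro β hβ
    obtain ⟨σ, hbij, hadd, hgen, hchi⟩ := exists_coord hK hR hβ
    have hz : σ 0 = 0 := by
      have := hadd 0 0
      rw [add_zero] at this
      exact left_eq_add.1 this
    have h1 : σ 1 ≠ 0 := fun h => one_ne_zero (hbij.1 (h.trans hz.symm))
    obtain ⟨x₀, hx₀⟩ := chi_surjective hK (Units.mk0 (σ 1) h1)
    have hc0 : (chi m x₀ : K) = σ 1 := congrArg Units.val hx₀
    -- the field automorphism
    set μ : K → K := fun t => (σ 1)⁻¹ * σ t with hμ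
    have hmul : ∀ a t : K, μ (a * t) = μ a * μ t := by
      intro a t
      rcases eq_or_ne a 0 with rfl | ha
      · simp [hμ, hz]
      obtain ⟨x, hx⟩ := chi_surjective hK (Units.mk0 a ha)
      obtain ⟨y, -, hy⟩ := hchi x
      have ea : σ a = (chi m y : K) * σ 1 := by
        rw [← hy, hx, mul_one]
        rfl
      have et : σ (a * t) = (chi m y : K) * σ t := by
        rw [← hy, hx]
        rfl
      simp only [hμ, ea, et]
      field_simp
    let σ' : RingAut K := RingEquiv.mk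
      (Equiv.ofBijective μ ((Equiv.mulLeft₀ _ (inv_ne_zero h1)).bijective.comp hbij))
      hmul (fun s t => by simp only [hμ, Equiv.toFun_as_coe, Equiv.ofBijective_apply, hadd, mul_add])
    have hσ' : ∀ t, σ' t = (σ 1)⁻¹ * σ t := fun t => rfl
    have hx₀H : H hK x₀ ∈ HT (grpG2 hK) := (mem_HT_iff' hK hR).2 ⟨x₀, rfl⟩
    set β₁ := MulAut.conj (H hK x₀) * Φ hK σ' with hβ₁
    have hn₁ : Normalised (grpG2 hK) β₁ := (Φ_normalised hK σ').conj_mul (grpG2 hK) (ChevTw.rulesG2 K) hR h0 hx₀H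
    set γ := β * β₁⁻¹ with hγ
    have hnγ : Normalised (grpG2 hK) γ := by
      refine ⟨fun g => ?_, fun g => ?_⟩
      · rw [hγ, MulAut.mul_apply, hβ.1]
        exact (Normalised.symm _ hn₁).1 g
      · rw [hγ, MulAut.mul_apply, hβ.2]
        exact (Normalised.symm _ hn₁).2 g
    have ht : ∀ t u v, ∃ u' v', γ (X hK t u v) = X hK t u' v' := by
      intro t u v
      obtain ⟨g, hg⟩ := β₁.surjective (X hK t u v)
      have hgU : g ∈ UT (grpG2 hK) := by
        rw [← hn₁.1, hg]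
        exact (mem_UT_iff hK).2 ⟨t, u, v, rfl⟩
      obtain ⟨t₁, u₁, v₁, rfl⟩ := (mem_UT_iff hK).1 hgU
      have e : t = σ t₁ := by
        rw [hβ₁, MulAut.mul_apply, MulAut.conj_apply, Φ_X, H_conj] at hg
        rw [← (X_inj hK hg).1, hc0, hσ', mul_inv_cancel_left₀ h1]
      obtain ⟨u', v', e'⟩ := hgen t₁ u₁ v₁
      refine ⟨u', v', ?_⟩
      show β (β₁.symm (X hK t u v)) = _
      rw [← hg, β₁.symm_apply_apply, e', e]
    have hH : ∀ x, γ (H hK x) = H hK x := by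
      intro x
      obtain ⟨y, hy⟩ := (mem_HT_iff' hK hR).1
        ((hnγ.mem_HT (grpG2 hK) (ChevTw.rulesG2 K) hR h0 (H hK x)).2 ((mem_HT_iff' hK hR).2 ⟨x, rfl⟩))
      obtain ⟨u', v', e'⟩ := ht 1 0 0
      obtain ⟨u'', v'', e''⟩ := ht ((chi m x : K) * 1) ((chiU m x : K) * 0) ((x : K) * 0)
      have e := congrArg γ (H_conj hK x 1 0 0)
      rw [map_mul, map_mul, map_inv, hy, e', H_conj, e''] at e
      have h2 := (X_inj hK e).1
      rw [mul_one, mul_one] at h2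
      rw [hy, chi_injective hK (Units.ext h2)]
    have hone := eq_one_of_trivial hK hR hm hnγ hH ht
    refine ⟨H hK x₀, hx₀H, σ', ?_⟩
    exact mul_inv_eq_one.1 hone
  · intro h hh σ σ' e
    obtain ⟨x, rfl⟩ := (mem_HT_iff' hK hR).1 hh
    have key : ∀ t, σ t = (chi m x : K) * σ' t := fun t => by
      have e1 := DFunLike.congr_fun e (X hK t 0 0)
      rw [MulAut.mul_apply, MulAut.conj_apply, Φ_X, Φ_X, H_conj] at e1
      exact (X_inj hK e1).1
    have h1 := key 1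
    rw [map_one, map_one, mul_one] at h1
    exact RingEquiv.ext fun t => by rw [key t, ← h1, one_mul]

end

end Cfsg.Agent.KSG.TwAutG2
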