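import Cfsg.Agent.ChevGrp.Longest
import Cfsg.Agent.ChevGrp.Bridge
import Cfsg.Agent.KSG.CharDiag

/-!
# Character diagonals inside the Chevalley group lie in the diagonal subgroup
-/

set_option autoImplicit false

namespace Cfsg.Agent.KSG

open Cfsg.Lie Cfsg.Agent.ChevGrp
open scoped MatrixGroups

variable {D : ChevalleyDatum} {F : Type*} [Field F]

theorem charDiag_mul (χ ψ : ℕ → Fˣ) :
    D.charDiag F χ * D.charDiag F ψ = D.charDiag F (fun r => χ r * ψ r) := by
  rw [ChevalleyDatum.charDiag, ChevalleyDatum.charDiag, ChevalleyDatum.charDiag,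
    Matrix.diagonal_mul_diagonal]
  congr 1
  funext a
  rcases a with a | a <;> simp

theorem charDiag_one : D.charDiag F (fun _ => 1) = 1 := by
  rw [ChevalleyDatum.charDiag, ← Matrix.diagonal_one]
  congr 1
  funext a
  rcases a with a | a <;> simp

theorem mem_diagonal_of_charDiag (hS : Rules D F) (hD : chainStepOK D = true) {χ : ℕ → Fˣ}
    (hχ : D.IsRootCharacter χ) {g : GL D.Idx F} (hg : g ∈ D.group F)
    (hgχ : (g : Matrix D.Idx D.Idx F) = D.charDiag F χ) : g ∈ D.diagonalSubgroup F := by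
  obtain ⟨len, hR⟩ := hS.root
  rw [diagonalSubgroup_eq hS hR]
  set S := glSys hS with hSdef
  have hinv : ((g⁻¹ : GL D.Idx F) : Matrix D.Idx D.Idx F) = D.charDiag F (fun s => (χ s)⁻¹) := by
    refine Units.inv_eq_of_mul_eq_one_right ?_
    rw [hgχ, charDiag_mul]
    simp [charDiag_one]
  have hgx : ∀ r < D.nroots, ∀ t : F, g * S.x r t * g⁻¹ = S.x r ((χ r : F) * t) := fun r hr t => by
    refine Units.ext ?_
    rw [Units.val_mul, Units.val_mul, hgχ, hinv]
    show D.charDiag F χ * (xGL D F r t : Matrix D.Idx D.Idx F) * _ = (xGL D F r _ : Matrix D.Idx D.Idx F)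
    rw [val_xGL hS, val_xGL hS]
    exact charDiag_conj hD hχ hr t
  have hgx' : ∀ r < D.nroots, ∀ t : F, g⁻¹ * S.x r t * g = S.x r ((χ r : F)⁻¹ * t) := fun r hr t => by
    have e := hgx r hr ((χ r : F)⁻¹ * t)
    rw [mul_inv_cancel_left₀ (χ r).ne_zero] at e
    rw [← e]
    group
  have hn : g ∈ Subgroup.normalizer (S.UJ ∅ : Set (GL D.Idx F)) := by
    have key : ∀ k : GL D.Idx F, (∀ r < D.nroots, ∀ t : F, ∃ t', k * S.x r t * k⁻¹ = S.x r t') →
        ∀ y ∈ S.UJ ∅, k * y * k⁻¹ ∈ S.UJ ∅ := by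
      intro k hk y hy
      have hle : S.UJ ∅ ≤ (S.UJ ∅).comap (MulAut.conj k).toMonoidHom := by
        conv_lhs => rw [Sys.UJ, Sys.US]
        rw [Subgroup.closure_le]
        rintro _ ⟨r, hr, t, rfl⟩
        obtain ⟨t', e⟩ := hk r hr.1.1 t
        show k * S.x r t * k⁻¹ ∈ S.UJ ∅
        rw [e]
        exact Subgroup.subset_closure ⟨r, hr, t', rfl⟩
      exact hle hy
    refine Subgroup.mem_normalizer_iff.2 fun y => ⟨fun hy => key g (fun r hr t => ⟨_, hgx r hr t⟩) y hy,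
      fun hy => ?_⟩
    have := key g⁻¹ (fun r hr t => ⟨_, by rw [inv_inv]; exact hgx' r hr t⟩) _ hy
    simpa [mul_assoc] using this
  have hB : g ∈ S.Bbar := by
    have h := Subgroup.mem_inf.2 ⟨hn, (group_eq hS ▸ hg : g ∈ S.Gbar)⟩
    rw [S.normalizer_inf_Gbar hS hR, Sys.PJ] at h
    simpa using h
  obtain ⟨u, hu, h, hh, e⟩ := (S.mem_Bbar hS hR).1 hB
  obtain ⟨d, -, ed⟩ := S.mat_Hbar hS hR (inv_mem hh)
  have e1 : S.mat u = 1 := by
    have eu : u = g * h⁻¹ := by rw [e, mul_inv_cancel_right]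
    ext a c
    by_contra hne
    have h2 := S.raise_Ubar hR hu a c hne
    have hac : a ≠ c := fun e => by subst e; omega
    rw [eu, Sys.mat_mul, ed, glSys_mat, hgχ, ChevalleyDatum.charDiag, Matrix.diagonal_mul_diagonal,
      Matrix.diagonal_apply_ne _ hac, Matrix.one_apply_ne hac] at hne
    exact hne rfl
  have hu1 : u = 1 := Units.ext (by rw [Units.val_one, ← glSys_mat hS u]; exact e1)
  rw [e, hu1, one_mul]
  exact hh

end Cfsg.Agent.KSG
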