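import Mathlib

/-!
# Automorphisms of rank-one pairs of root groups act on the parameters by field isomorphisms
-/

set_option autoImplicit false

namespace Cfsg.Agent.KSG.RankOne

variable {G : Type*} [Group G]

/-- Two opposite one-parameter subgroups with the usual action of `X a * Y (-a⁻¹) * X a`. -/
structure Pair {L : Type*} [Field L] (X Y : L → G) : Prop where
  addX : ∀ s t, X (s + t) = X s * X t
  addY : ∀ s t, Y (s + t) = Y s * Y t
  injX : Function.Injective X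
  disj : ∀ a b, X a = Y b → a = 0
  conjX : ∀ a, a ≠ 0 → ∀ s, X a * Y (-a⁻¹) * X a * X s * (X a * Y (-a⁻¹) * X a)⁻¹ = Y (-(s / a ^ 2))
  conjY : ∀ a, a ≠ 0 → ∀ c, X a * Y (-a⁻¹) * X a * Y c * (X a * Y (-a⁻¹) * X a)⁻¹ = X (-(a ^ 2 * c))

variable {L : Type*} [Field L] {X Y : L → G}

theorem Pair.X_zero (h : Pair X Y) : X 0 = 1 := by
  have := h.addX 0 0
  rwa [add_zero, left_eq_mul] at this

theorem Pair.Y_zero (h : Pair X Y) : Y 0 = 1 := by
  have := h.addY 0 0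
  rwa [add_zero, left_eq_mul] at this

theorem Pair.X_neg (h : Pair X Y) (t : L) : X (-t) = (X t)⁻¹ :=
  eq_inv_of_mul_eq_one_left (by rw [← h.addX, neg_add_cancel, h.X_zero])

theorem Pair.Y_neg (h : Pair X Y) (t : L) : Y (-t) = (Y t)⁻¹ :=
  eq_inv_of_mul_eq_one_left (by rw [← h.addY, neg_add_cancel, h.Y_zero])

theorem Pair.injY (h : Pair X Y) : Function.Injective Y := fun s t e => by
  have h1 := h.conjY 1 one_ne_zero s
  rw [e, h.conjY 1 one_ne_zero t] at h1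
  simpa using (h.injX h1).symm

/-- The monomial element of a parameter. -/
def nOf (X Y : L → G) (a : L) : G := X a * Y (-a⁻¹) * X a

/-- The torus element of a parameter. -/
def hOf (X Y : L → G) (a : L) : G := nOf X Y a * nOf X Y (-1)

theorem Pair.hOf_conjX (h : Pair X Y) {a : L} (ha : a ≠ 0) (s : L) :
    hOf X Y a * X s * (hOf X Y a)⁻¹ = X (a ^ 2 * s) := by
  have e1 : nOf X Y (-1) * X s * (nOf X Y (-1))⁻¹ = Y (-s) := by
    rw [nOf, h.conjX (-1) (neg_ne_zero.2 one_ne_zero)]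
    simp
  have e2 : nOf X Y a * Y (-s) * (nOf X Y a)⁻¹ = X (a ^ 2 * s) := by
    rw [nOf, h.conjY a ha]
    simp
  rw [← e2, ← e1, hOf]
  group

/-- An automorphism sending one pair to another, normalised at `1`. -/
structure Hom {M : Type*} [Field M] (X Y : L → G) (X' Y' : M → G) (β : G ≃* G) (σ τ : L → M) : Prop where
  pos : ∀ t, β (X t) = X' (σ t)
  neg : ∀ t, β (Y t) = Y' (τ t)
  bij : Function.Bijective σ
  one : σ 1 = 1

variable {M : Type*} [Field M] {X' Y' : M → G} {β : G ≃* G} {σ τ : L → M}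

theorem Hom.map_add (hh : Hom X Y X' Y' β σ τ) (h : Pair X Y) (h' : Pair X' Y') (s t : L) :
    σ (s + t) = σ s + σ t :=
  h'.injX (by rw [h'.addX, ← hh.pos, ← hh.pos, ← hh.pos, h.addX, map_mul])

theorem Hom.map_zero (hh : Hom X Y X' Y' β σ τ) (h : Pair X Y) (h' : Pair X' Y') : σ 0 = 0 := by
  have := hh.map_add h h' 0 0
  rw [add_zero] at this
  exact left_eq_add.1 this

theorem Hom.map_neg (hh : Hom X Y X' Y' β σ τ) (h : Pair X Y) (h' : Pair X' Y') (t : L) :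
    σ (-t) = -σ t :=
  eq_neg_of_add_eq_zero_left (by rw [← hh.map_add h h', neg_add_cancel, hh.map_zero h h'])

theorem Hom.ne_zero (hh : Hom X Y X' Y' β σ τ) (h : Pair X Y) (h' : Pair X' Y') {t : L} (ht : t ≠ 0) :
    σ t ≠ 0 := fun e => ht (hh.bij.1 (e.trans (hh.map_zero h h').symm))

theorem Hom.tau_eq (hh : Hom X Y X' Y' β σ τ) (h : Pair X Y) (h' : Pair X' Y') {t : L} (ht : t ≠ 0) :
    τ (-t⁻¹) = -(σ t)⁻¹ := by
  set a := σ t with ha'
  have ha : a ≠ 0 := hh.ne_zero h h' ht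
  set b := τ (-t⁻¹)
  obtain ⟨s, hs⟩ := hh.bij.2 1
  have e2 := congrArg β (h.conjX t ht s)
  simp only [map_mul, map_inv, hh.pos, hh.neg, hs] at e2
  set c := τ (-(s / t ^ 2))
  change X' a * Y' b * X' a * X' 1 * (X' a * Y' b * X' a)⁻¹ = Y' c at e2
  by_contra hb
  set d := b + a⁻¹ with hd
  have hd0 : d ≠ 0 := fun h => hb (eq_neg_of_add_eq_zero_left h)
  set v := -((-a) ^ 2 * c) with hv'
  have hcomm : ∀ x y : M, X' x * X' y * (X' x)⁻¹ = X' y := fun x y => by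
    rw [← h'.addX, add_comm, h'.addX, mul_inv_cancel_right]
  have e3 : Y' d * X' 1 * (Y' d)⁻¹ = X' v := by
    have e4 : nOf X' Y' (-a) * Y' c * (nOf X' Y' (-a))⁻¹ = X' v := h'.conjY (-a) (neg_ne_zero.2 ha) c
    rw [← hcomm a v, ← e4, ← e2, nOf, inv_neg, neg_neg, h'.X_neg, hd, add_comm, h'.addY]
    conv_lhs => rw [← hcomm a 1]
    group
  have hd1 : -d⁻¹ ≠ 0 := neg_ne_zero.2 (inv_ne_zero hd0)
  have e7 : X' v = Y' (-(1 / (-d⁻¹) ^ 2)) := by
    rw [← h'.conjX _ hd1 1, ← hcomm (-d⁻¹) v, ← e3, inv_neg, inv_inv, neg_neg]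
    conv_lhs => rw [← hcomm (-d⁻¹) 1]
    group
  have hv0 : v = 0 := h'.disj _ _ e7
  rw [hv0, h'.X_zero, conj_eq_one_iff, ← h'.X_zero] at e3
  exact one_ne_zero (h'.injX e3)

theorem Hom.map_nOf (hh : Hom X Y X' Y' β σ τ) (h : Pair X Y) (h' : Pair X' Y') {t : L} (ht : t ≠ 0) :
    β (nOf X Y t) = nOf X' Y' (σ t) := by
  rw [nOf, nOf, map_mul, map_mul, hh.pos, hh.neg, hh.tau_eq h h' ht]

theorem Hom.map_hOf (hh : Hom X Y X' Y' β σ τ) (h : Pair X Y) (h' : Pair X' Y') {t : L} (ht : t ≠ 0) :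
    β (hOf X Y t) = hOf X' Y' (σ t) := by
  rw [hOf, hOf, map_mul, hh.map_nOf h h' ht, hh.map_nOf h h' (neg_ne_zero.2 one_ne_zero),
    hh.map_neg h h', hh.one]

theorem Hom.map_mul' [Finite L] (hh : Hom X Y X' Y' β σ τ) (h : Pair X Y) (h' : Pair X' Y') (a b : L) :
    σ (a * b) = σ a * σ b := by
  have h2 : ∀ t u : L, σ (t ^ 2 * u) = σ t ^ 2 * σ u := fun t u => by
    rcases eq_or_ne t 0 with rfl | ht
    · simp [hh.map_zero h h']
    · refine h'.injX ?_
      rw [← hh.pos, ← h.hOf_conjX ht, map_mul, map_mul, map_inv, hh.map_hOf h h' ht, hh.pos,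
        h'.hOf_conjX (hh.ne_zero h h' ht)]
  have hsq : ∀ t : L, σ (t ^ 2) = σ t ^ 2 := fun t => by simpa [hh.one] using h2 t 1
  by_cases hF : ringChar L = 2
  · have := Fintype.ofFinite L
    obtain ⟨s, rfl⟩ := FiniteField.isSquare_of_char_two hF a
    rw [← pow_two, h2, hsq]
  · have hM2 : (2 : M) ≠ 0 := fun e => by
      refine Ring.two_ne_zero hF ?_
      refine hh.bij.1 ?_
      rw [hh.map_zero h h', ← e, ← one_add_one_eq_two, hh.map_add h h', hh.one, one_add_one_eq_two]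
    have e := hsq (a + b)
    rw [add_sq, hh.map_add h h', hh.map_add h h', hh.map_add h h', hsq, hsq, add_sq] at e
    have e2 : σ (2 * a * b) = 2 * σ a * σ b := by linear_combination e
    rw [mul_assoc, two_mul, hh.map_add h h', ← two_mul, mul_assoc] at e2
    exact mul_left_cancel₀ hM2 e2

theorem Hom.exists_ringEquiv [Finite L] (hh : Hom X Y X' Y' β σ τ) (h : Pair X Y) (h' : Pair X' Y') :
    ∃ e : L ≃+* M, (∀ t, σ t = e t) ∧ ∀ t, τ t = e t := by
  refine ⟨RingEquiv.mk (Equiv.ofBijective _ hh.bij) (hh.map_mul' h h') (hh.map_add h h'), fun _ => rfl,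
    fun t => ?_⟩
  set e : L ≃+* M := RingEquiv.mk (Equiv.ofBijective _ hh.bij) (hh.map_mul' h h') (hh.map_add h h')
  rcases eq_or_ne t 0 with rfl | ht
  · rw [_root_.map_zero]
    refine h'.injY ?_
    rw [← hh.neg, h.Y_zero, _root_.map_one, h'.Y_zero]
  · have hq := hh.tau_eq h h' (t := -t⁻¹) (neg_ne_zero.2 (inv_ne_zero ht))
    rw [inv_neg, inv_inv, neg_neg] at hq
    rw [hq, show σ (-t⁻¹) = e (-t⁻¹) from rfl, _root_.map_neg, map_inv₀, inv_neg, inv_inv, neg_neg]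

end Cfsg.Agent.KSG.RankOne
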