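import Cfsg.Agent.KSG.TwAutPairs
import Cfsg.Agent.KSG.AutDiag
import Cfsg.Agent.KSG.AutOut

/-!
# Twisted groups: helpers for building the parameters
-/

set_option autoImplicit false

namespace Cfsg.Agent.KSG.TwAut

open Cfsg.Lie Cfsg.Agent.ChevGrp Cfsg.Agent.ChevTw Cfsg.Agent.KSG

section

variable {D : ChevalleyDatum} {F : Type*} [Field F] {G : Type*} [Group G] {len : ℕ → ℕ}
  {S : Sys D F G} {T : Twist S} {ι : Type*} {O : Orbits T ι} {W : TwGroup O}

theorem conj_P (h : G) {a : ℕ → F} (ha : ∀ s < D.nroots, ∀ t : F, h * S.x s t * h⁻¹ = S.x s (a s * t))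
    {L : List ℕ} (hL : ∀ r ∈ L, r < D.nroots) (t : ℕ → F) :
    h * S.P L t * h⁻¹ = S.P L (fun r => a r * t r) := by
  induction L with
  | nil => simp [Sys.P_nil]
  | cons r L ih =>
    rw [Sys.P_cons, Sys.P_cons, ← ih (fun s hs => hL s (List.mem_cons_of_mem _ hs)),
      ← ha r (hL r List.mem_cons_self) (t r)]
    simp [mul_assoc]

/-- A torus element is linear in the parameter of a product of root elements. -/
theorem lin_of_P (hS : Rules D F) (hR : RootTable D len) {L : Type*} {c : L → ℕ → F} {l : List ℕ}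
    {φ : (Fin D.rank → ℤ) →+ ℤ} {A : Set ℕ} (hA : UClosed D len φ A) (hl : Enum A l) {r : ℕ} (hr : r ∈ A)
    {X : L → ↥W.Tw} (hX : ∀ t, (X t : G) = S.P l (c t)) (v : L → F) (hv : ∀ t, c t r = v t)
    {h : ↥W.Tw} (hh : h ∈ HT W) : ∃ a : F, ∀ t u, h * X t * h⁻¹ = X u → v u = a * v t := by
  obtain ⟨a, -, ha, -⟩ := hbar_char hS hR (show (h : G) ∈ S.Hbar from hh)
  refine ⟨a r, fun t u e => ?_⟩
  have e1 := congrArg Subtype.val e
  simp only [Subgroup.coe_mul, Subgroup.coe_inv, hX] at e1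
  rw [conj_P (h : G) ha (fun s hs => hA.lt s ((hl.2 s).1 hs))] at e1
  have e2 := S.coef_unique hR hA hl (congrArg S.θ e1) r hr
  rw [← hv, ← hv]
  exact e2.symm

theorem eq_one_of_pos_neg (hS : Rules D F) (hR : RootTable D len) (J J' : ι) {g : G}
    (h1 : g ∈ S.US (O.posJ J)) (h2 : g ∈ S.US (O.negJ J')) : g = 1 := by
  have h : g ∈ S.Ubar ⊓ S.Vbar :=
    Subgroup.mem_inf.2 ⟨S.US_mono (fun r hr => hr.1) h1, S.US_mono (fun r hr => hr.1) h2⟩
  rwa [Aut.Ubar_inf_Vbar S hS hR, Subgroup.mem_bot] at h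

/-- Adjacent orbits have the same field automorphism. -/
theorem sync_link (P : Data W) {β : MulAut ↥W.Tw} {e : ∀ J, ↥(P.fld J) ≃+* ↥(P.fld J)}
    (he : ∀ J t, β (P.X J t) = P.X J (e J t) ∧ β (P.Y J t) = P.Y J (e J t)) {J J' : ι}
    (hle : ∀ t ∈ P.fld J, t ∈ P.fld J')
    (hlink : ∀ (a : ↥(P.fld J)), a ≠ 0 → RankOne.hOf (P.X J) (P.Y J) a * P.X J' 1 *
      (RankOne.hOf (P.X J) (P.Y J) a)⁻¹ = P.X J' (⟨(a : F), hle a a.2⟩)⁻¹)
    (a : ↥(P.fld J)) : ((e J' ⟨(a : F), hle a a.2⟩ : ↥(P.fld J')) : F) = e J a := by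
  rcases eq_or_ne a 0 with rfl | ha
  · rw [show (⟨((0 : ↥(P.fld J)) : F), hle _ (0 : ↥(P.fld J)).2⟩ : ↥(P.fld J')) = 0 from rfl]
    simp
  have h1 := congrArg β (hlink a ha)
  have hH : β (RankOne.hOf (P.X J) (P.Y J) a) = RankOne.hOf (P.X J) (P.Y J) (e J a) := by
    simp [RankOne.hOf, RankOne.nOf, (he J _).1, (he J _).2]
  simp only [map_mul, map_inv, hH, (he J' _).1, map_one] at h1
  rw [hlink (e J a) ((map_ne_zero_iff _ (e J).injective).2 ha), map_inv₀] at h1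
  have h2 := inv_injective ((P.pair J').injX h1)
  exact congrArg Subtype.val h2.symm

/-- The automorphism of the field from an orbit with all parameters. -/
theorem exists_ringAut_of_top (P : Data W) {J : ι} (hJ : P.fld J = ⊤) (e : ↥(P.fld J) ≃+* ↥(P.fld J)) :
    ∃ σ : RingAut F, ∀ t, e t = P.res σ J t := by
  have hm : ∀ x : F, x ∈ P.fld J := fun x => hJ ▸ trivial
  refine ⟨RingEquiv.mk ⟨fun x => (e ⟨x, hm x⟩ : F), fun x => (e.symm ⟨x, hm x⟩ : F),
      fun x => ?_, fun x => ?_⟩ (fun x y => ?_) (fun x y => ?_), fun t => rfl⟩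
  · show ((e.symm (e ⟨x, hm x⟩) : ↥(P.fld J)) : F) = x
    rw [e.symm_apply_apply]
  · show ((e (e.symm ⟨x, hm x⟩) : ↥(P.fld J)) : F) = x
    rw [e.apply_symm_apply]
  · show ((e (⟨x, hm x⟩ * ⟨y, hm y⟩) : ↥(P.fld J)) : F) = _
    rw [map_mul]
    rfl
  · show ((e (⟨x, hm x⟩ + ⟨y, hm y⟩) : ↥(P.fld J)) : F) = _
    rw [map_add]
    rfl

end

section

variable {D : ChevalleyDatum} {K : Type*} [Field K] {len : ℕ → ℕ}

theorem exists_amb_diag (hS : Rules D K) (hR : RootTable D len) (hE : Aut.chainEdgeOK D = true)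
    (hD : chainStepOK D = true) (u : Fin D.rank → Kˣ) :
    ∃ e : GL D.Idx K ≃* GL D.Idx K,
      (∀ r < D.nroots, ∀ t : K, ∃ v, e ((glSys hS).x r t) = (glSys hS).x r v) ∧ ∀ i : Fin D.rank, ∀ t : K,
        e ((glSys hS).x (D.simple i) t) = (glSys hS).x (D.simple i) ((u i : K) * t) ∧
        e ((glSys hS).x (D.neg (D.simple i)) t) = (glSys hS).x (D.neg (D.simple i)) ((u i : K)⁻¹ * t) := by
  have hχ := Aut.charOf_isRootCharacter hR hE u
  refine ⟨MulAut.conj (Aut.charUnit D (Aut.charOf D len u)),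
    fun r hr t => ⟨_, Aut.charUnit_conj hS hD hχ hr t⟩, fun i t => ⟨?_, ?_⟩⟩
  · refine (Aut.charUnit_conj hS hD hχ (hR.simple_lt i i.2) t).trans ?_
    rw [Aut.charOf_simple hR]
    rfl
  · refine (Aut.charUnit_conj hS hD hχ (hR.neg_lt _ (hR.simple_lt i i.2)) t).trans ?_
    rw [hχ.1 _ (hR.simple_lt i i.2), Aut.charOf_simple hR, Units.val_inv_eq_inv_val]
    rfl

theorem exists_amb_field (hS : Rules D K) (σ : RingAut K) :
    ∃ e : GL D.Idx K ≃* GL D.Idx K, ∀ r : ℕ, ∀ t : K, e ((glSys hS).x r t) = (glSys hS).x r (σ t) := by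
  refine ⟨MulEquiv.ofBijective (Matrix.GeneralLinearGroup.map (n := D.Idx) (σ : K →+* K))
    ⟨glMap_injective D _, fun g => ⟨Matrix.GeneralLinearGroup.map (n := D.Idx) (σ.symm : K →+* K) g, ?_⟩⟩,
    fun r t => ?_⟩
  · ext i j
    simp
  · refine Units.ext ?_
    show (((glSys hS).x r t : GL D.Idx K) : Matrix D.Idx D.Idx K).map σ = _
    show ((xGL D K r t : GL D.Idx K) : Matrix D.Idx D.Idx K).map σ = (xGL D K r (σ t) : GL D.Idx K).val
    rw [val_xGL hS, val_xGL hS]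
    exact x_map D (σ : K →+* K) r t

theorem card_HT {hS : Rules D K} {T : Twist (glSys hS)} {ι : Type*} {O : Orbits T ι} (W : TwGroup O)
    (hR : RootTable D len) : Nat.card ↥(HT W) = Nat.card ↥(D.diagonalSubgroup K ⊓ W.Tw) := by
  rw [diagonalSubgroup_eq hS hR]
  exact Nat.card_congr
    { toFun := fun g => ⟨g.1.1, Subgroup.mem_inf.2 ⟨g.2, g.1.2⟩⟩
      invFun := fun g => ⟨⟨g.1, (Subgroup.mem_inf.1 g.2).2⟩, (Subgroup.mem_inf.1 g.2).1⟩
      left_inv := fun _ => rfl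
      right_inv := fun _ => rfl }

/-- The fixed field of an endomorphism. -/
def fixField (φ : K →+* K) : Subfield K := φ.eqLocusField (RingHom.id K)

theorem mem_fixField {φ : K →+* K} {t : K} : t ∈ fixField φ ↔ φ t = t := Iff.rfl

theorem aut_mem_fixField {φ : K →+* K} {q : ℕ} (hφ : ∀ t, φ t = t ^ q) (σ : RingAut K) {t : K}
    (ht : t ∈ fixField φ) : σ t ∈ fixField φ := by
  rw [mem_fixField, hφ] at ht ⊢
  rw [← map_pow, ht]

end

end Cfsg.Agent.KSG.TwAut
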