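import Cfsg.Agent.KSG.TwAutParam
import Cfsg.Agent.CentralExt.SymbolFinite

/-!
# Twisted groups: adjacency of orbits, and rank-one pairs of products of commuting roots
-/

set_option autoImplicit false

namespace Cfsg.Agent.KSG

open Cfsg.Agent.BNPair in
/-- Two distinguished generators commute iff the product of their parabolics is the reversed one. -/
theorem prod_swap_iff {G : Type*} [Group G] (P : Cfsg.BNPair G) (s t : P.S) :
    σ P s * σ P t = σ P t * σ P s ↔ ∀ g ∈ P.parabolic {(s : G)}, ∀ g' ∈ P.parabolic {(t : G)},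
      ∃ h ∈ P.parabolic {(t : G)}, ∃ h' ∈ P.parabolic {(s : G)}, g * g' = h * h' := by
  have hB : ∀ (r : P.S) {b : G}, b ∈ P.B → b ∈ P.parabolic {(r : G)} := fun r b hb => B_le_parabolic P _ hb
  have hs : ∀ r : P.S, (r : G) ∈ P.parabolic {(r : G)} := fun r => subset_parabolic P _ rfl
  constructor
  · intro hc g hg g' hg'
    rcases bw_cases_of_singleton P s hg with h1 | h1
    · exact ⟨g * g', mul_mem (hB t ((bw_eq_one_iff P).1 h1)) hg', 1, one_mem _, by rw [mul_one]⟩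
    rcases bw_cases_of_singleton P t hg' with h2 | h2
    · exact ⟨1, one_mem _, g * g', mul_mem hg (hB s ((bw_eq_one_iff P).1 h2)), by rw [one_mul]⟩
    obtain ⟨b, hb, b', hb', rfl⟩ := exists_eq_mul_mul' P (n := ⟨(s : G), P.subset s.2⟩) h1
    have h3 : b' * g' ∈ C P (σ P t) := left_mul_mem_C P hb' ((mem_C_iff P).2 h2)
    rcases s_mul_C P s h3 with h | h
    · rw [hc, σ, σ, ← map_mul, C_eq_doubleCoset, DoubleCoset.mem_doubleCoset] at h
      obtain ⟨c, hc1, c', hc', e⟩ := h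
      refine ⟨b * c * t, mul_mem (mul_mem (hB t hb) (hB t hc1)) (hs t), s * c',
        mul_mem (hs s) (hB s hc'), ?_⟩
      calc b * s * b' * g' = b * ((s : G) * (b' * g')) := by group
        _ = b * (c * ((t : G) * s) * c') := by rw [e]; rfl
        _ = _ := by group
    · refine ⟨b * s * b' * g', ?_, 1, one_mem _, by rw [mul_one]⟩
      rw [mul_assoc (b * (s : G)), mul_assoc b]
      refine mul_mem (hB t hb) ((mem_parabolic_iff P (Set.singleton_subset_iff.2 t.2)).2 ?_)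
      rw [(mem_C_iff P).1 h, σ_mem_WJ_iff]
      rfl
  · intro H
    obtain ⟨h, hh, h', hh', e⟩ := H s (hs s) t (hs t)
    have heq : ∀ {a b : P.S}, (a : G) ∈ P.parabolic {(b : G)} → a = b := fun {a b} hab =>
      Subtype.ext ((mem_parabolic_of_mem P (Set.singleton_subset_iff.2 b.2) a).1 hab)
    rcases bw_cases_of_singleton P t hh with h1 | h1
    · have : (t : G) ∈ P.parabolic {(s : G)} := by
        have := mul_mem (inv_mem (hs s)) (mul_mem (hB s ((bw_eq_one_iff P).1 h1)) hh')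
        rwa [← e, inv_mul_cancel_left] at this
      rw [heq this]
    rcases bw_cases_of_singleton P s hh' with h2 | h2
    · have : (s : G) ∈ P.parabolic {(t : G)} := by
        have := mul_mem (mul_mem hh (hB t ((bw_eq_one_iff P).1 h2))) (inv_mem (hs t))
        rwa [← e, mul_inv_cancel_right] at this
      rw [heq this]
    obtain ⟨b, hb, b', hb', rfl⟩ := exists_eq_mul_mul' P (n := ⟨(t : G), P.subset t.2⟩) h1
    have h3 : b' * h' ∈ C P (σ P s) := left_mul_mem_C P hb' ((mem_C_iff P).2 h2)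
    have hst : (s : G) * t = b * ((t : G) * (b' * h')) := by rw [e]; group
    have hw : bw P ((s : G) * t) = σ P s * σ P t := by
      rw [σ, σ, ← map_mul]
      exact bw_coe P (⟨(s : G), P.subset s.2⟩ * ⟨(t : G), P.subset t.2⟩)
    rcases s_mul_C P t h3 with h | h <;> have h4 := (mem_C_iff P).1 (left_mul_mem_C P hb h) <;>
      rw [← hst, hw] at h4
    · exact h4
    · exact absurd (mul_eq_left.1 h4) (σ_ne_one P t)

namespace RankOne

variable {G : Type*} [Group G] {L : Type*} [Field L]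

/-- The relations of a pair without injectivity. -/
structure PreP (X Y : L → G) : Prop where
  addX : ∀ s t, X (s + t) = X s * X t
  addY : ∀ s t, Y (s + t) = Y s * Y t
  conjX : ∀ a, a ≠ 0 → ∀ s, nOf X Y a * X s * (nOf X Y a)⁻¹ = Y (-(s / a ^ 2))
  conjY : ∀ a, a ≠ 0 → ∀ c, nOf X Y a * Y c * (nOf X Y a)⁻¹ = X (-(a ^ 2 * c))

variable {X Y X₂ Y₂ : L → G}

/-- The two pairs commute elementwise. -/
def Comm2 (X Y X₂ Y₂ : L → G) : Prop :=
  ∀ a b, Commute (X a) (X₂ b) ∧ Commute (X a) (Y₂ b) ∧ Commute (Y a) (X₂ b) ∧ Commute (Y a) (Y₂ b)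

theorem nOf_mul (hc : Comm2 X Y X₂ Y₂) (a : L) :
    nOf (fun t => X t * X₂ t) (fun t => Y t * Y₂ t) a = nOf X Y a * nOf X₂ Y₂ a := by
  have h1 : Commute (X₂ a) (Y (-a⁻¹)) := (hc (-a⁻¹) a).2.2.1.symm
  have h2 : Commute (X₂ a * Y₂ (-a⁻¹)) (X a) := ((hc a a).1.symm).mul_left (hc a (-a⁻¹)).2.1.symm
  calc X a * X₂ a * (Y (-a⁻¹) * Y₂ (-a⁻¹)) * (X a * X₂ a)
      = X a * (X₂ a * Y (-a⁻¹)) * Y₂ (-a⁻¹) * X a * X₂ a := by group
    _ = X a * Y (-a⁻¹) * ((X₂ a * Y₂ (-a⁻¹)) * X a) * X₂ a := by rw [h1.eq]; group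
    _ = _ := by rw [h2.eq, nOf, nOf]; group

theorem commute_nOf {z : G} (hX : ∀ a, Commute z (X a)) (hY : ∀ a, Commute z (Y a)) (a : L) :
    Commute z (nOf X Y a) :=
  ((hX a).mul_right (hY _)).mul_right (hX a)

theorem conj_mul {n n₂ z z₂ : G} (h1 : Commute z n₂) (h2 : Commute n (n₂ * z₂ * n₂⁻¹)) :
    n * n₂ * (z * z₂) * (n * n₂)⁻¹ = (n * z * n⁻¹) * (n₂ * z₂ * n₂⁻¹) := by
  calc n * n₂ * (z * z₂) * (n * n₂)⁻¹ = n * (n₂ * z) * z₂ * n₂⁻¹ * n⁻¹ := by group
    _ = n * z * ((n₂ * z₂ * n₂⁻¹) * n⁻¹) := by rw [← h1.eq]; group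
    _ = _ := by rw [← h2.inv_left.eq]; group

theorem PreP.mul (h : PreP X Y) (h₂ : PreP X₂ Y₂) (hc : Comm2 X Y X₂ Y₂) :
    PreP (fun t => X t * X₂ t) (fun t => Y t * Y₂ t) where
  addX s t := by rw [h.addX, h₂.addX, mul_assoc, ← mul_assoc (X t), (hc t s).1.eq]; group
  addY s t := by rw [h.addY, h₂.addY, mul_assoc, ← mul_assoc (Y t), (hc t s).2.2.2.eq]; group
  conjX a ha s := by
    rw [nOf_mul hc, conj_mul (commute_nOf (fun b => (hc s b).1) (fun b => (hc s b).2.1) a)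
      (by rw [h₂.conjX a ha]; exact (commute_nOf (fun b => (hc b _).2.1.symm) (fun b => (hc b _).2.2.2.symm) a).symm),
      h.conjX a ha, h₂.conjX a ha]
  conjY a ha c := by
    rw [nOf_mul hc, conj_mul (commute_nOf (fun b => (hc c b).2.2.1) (fun b => (hc c b).2.2.2) a)
      (by rw [h₂.conjY a ha]; exact (commute_nOf (fun b => (hc b _).1.symm) (fun b => (hc b _).2.2.1.symm) a).symm),
      h.conjY a ha, h₂.conjY a ha]

theorem hOf_mul (hc : Comm2 X Y X₂ Y₂) (a : L) :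
    hOf (fun t => X t * X₂ t) (fun t => Y t * Y₂ t) a = hOf X Y a * hOf X₂ Y₂ a := by
  have h : Commute (nOf X₂ Y₂ a) (nOf X Y (-1)) :=
    commute_nOf (fun b => (commute_nOf (fun c => (hc b c).1) (fun c => (hc b c).2.1) a).symm)
      (fun b => (commute_nOf (fun c => (hc b c).2.2.1) (fun c => (hc b c).2.2.2) a).symm) (-1)
  rw [hOf, nOf_mul hc, nOf_mul hc, hOf, hOf]
  calc nOf X Y a * nOf X₂ Y₂ a * (nOf X Y (-1) * nOf X₂ Y₂ (-1))
      = nOf X Y a * (nOf X₂ Y₂ a * nOf X Y (-1)) * nOf X₂ Y₂ (-1) := by group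
    _ = _ := by rw [h.eq]; group

open Cfsg.Lie Cfsg.Agent.ChevGrp in
/-- A fundamental root with a field embedding. -/
theorem PreP.root {D : ChevalleyDatum} {F : Type*} [Field F] {len : ℕ → ℕ} (S : Sys D F G)
    (hS : Rules D F) (hR : RootTable D len) (i : Fin D.rank) (φ : L →+* F) :
    PreP (fun t => S.x (D.simple i) (φ t)) (fun t => S.x (D.neg (D.simple i)) (φ t)) where
  addX s t := by rw [map_add, S.x_add _ (hR.simple_lt i i.2)]
  addY s t := by rw [map_add, S.x_add _ (hR.neg_lt _ (hR.simple_lt i i.2))]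
  conjX a ha s := by
    have h := (CentralExt.Symbol.nEl_conj S hS hR i ((map_ne_zero φ).2 ha)).1 (φ s)
    rw [Sys.nEl] at h
    simpa [nOf, map_neg, map_inv₀, map_div₀, map_pow] using h
  conjY a ha c := by
    have h := (CentralExt.Symbol.nEl_conj S hS hR i ((map_ne_zero φ).2 ha)).2 (φ c)
    rw [Sys.nEl] at h
    simpa [nOf, map_neg, map_inv₀, map_mul, map_pow] using h

open Cfsg.Lie Cfsg.Agent.ChevGrp in
theorem hOf_root {D : ChevalleyDatum} {F : Type*} [Field F] (S : Sys D F G) (i : Fin D.rank)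
    (φ : L →+* F) (a : L) :
    hOf (fun t => S.x (D.simple i) (φ t)) (fun t => S.x (D.neg (D.simple i)) (φ t)) a =
      S.hEl (D.simple i) (φ a) := by
  simp [hOf, nOf, Sys.hEl, Sys.nEl]

/-- A pair in a subgroup from its relations in the group. -/
theorem PreP.pair {H : Subgroup G} {X Y : L → ↥H} (h : PreP (fun t => (X t : G)) (fun t => (Y t : G)))
    (h1 : ∀ a, (X a : G) = 1 → a = 0) (h2 : ∀ a b, (X a : G) = Y b → (X a : G) = 1) : Pair X Y where
  addX s t := Subtype.ext (h.addX s t)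
  addY s t := Subtype.ext (h.addY s t)
  injX s t e := sub_eq_zero.1 (h1 _ (by
    refine mul_right_cancel (b := ((X t : ↥H) : G)) ?_
    rw [← h.addX, sub_add_cancel, one_mul, e]))
  disj a b e := h1 a (h2 a b (congrArg Subtype.val e))
  conjX a ha s := Subtype.ext (h.conjX a ha s)
  conjY a ha c := Subtype.ext (h.conjY a ha c)

theorem coe_hOf {H : Subgroup G} (X Y : L → ↥H) (a : L) :
    ((hOf X Y a : ↥H) : G) = hOf (fun t => (X t : G)) (fun t => (Y t : G)) a := rfl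

end RankOne

namespace TwAut

open Cfsg.Lie Cfsg.Agent.ChevGrp Cfsg.Agent.ChevTw Cfsg.Agent.BNPair

variable {D : ChevalleyDatum} {F : Type*} [Field F] {G : Type*} [Group G] {len : ℕ → ℕ}
  {S : Sys D F G} {T : Twist S} {ι : Type*} {O : Orbits T ι} (W : TwGroup O)
  (hS : Rules D F) (hR : RootTable D len) {ks0 : List ι} (h0 : IsLongest O ks0)

/-- The orbit words commute on the roots. -/
def WordsComm (O : Orbits T ι) (J J' : ι) : Prop :=
  ∀ r < D.nroots, act D (O.wJ J ++ O.wJ J') r = act D (O.wJ J' ++ O.wJ J) r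

include hS hR h0 in
theorem σ_comm_iff (J J' : ι) (hJ : nT W hS hR J ∈ (pair W hS hR h0).S)
    (hJ' : nT W hS hR J' ∈ (pair W hS hR h0).S) :
    σ (pair W hS hR h0) ⟨_, hJ⟩ * σ (pair W hS hR h0) ⟨_, hJ'⟩ =
      σ (pair W hS hR h0) ⟨_, hJ'⟩ * σ (pair W hS hR h0) ⟨_, hJ⟩ ↔ WordsComm O J J' := by
  set P := pair W hS hR h0
  obtain ⟨g1, g2, g3⟩ := W.nJ_spec hS hR J
  obtain ⟨k1, k2, k3⟩ := W.nJ_spec hS hR J'
  have hn : (W.nJ hS hR J' * W.nJ hS hR J)⁻¹ * (W.nJ hS hR J * W.nJ hS hR J') ∈ S.Nbar :=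
    mul_mem (inv_mem (mul_mem k1 g1)) (mul_mem g1 k1)
  have hc := ((k2.mul hR g2).inv hR).mul hR (g2.mul hR k2)
  rw [σ, σ, ← map_mul, ← map_mul, eq_comm, π_eq_iff, pair_B, mem_BT]
  show (W.nJ hS hR J' * W.nJ hS hR J)⁻¹ * (W.nJ hS hR J * W.nJ hS hR J') ∈ S.Bbar ↔ _
  constructor
  · intro h r hr
    have hH : (W.nJ hS hR J' * W.nJ hS hR J)⁻¹ * (W.nJ hS hR J * W.nJ hS hR J') ∈ S.Hbar := by
      rw [← S.Bbar_inf_Nbar hS hR]
      exact Subgroup.mem_inf.2 ⟨h, hn⟩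
    have e := Sys.ConjP.act_unique S hR hc (S.conjP_Hbar hS hR hH) r hr
    rw [act_append, act_nil] at e
    conv_rhs => rw [← e]
    rw [hR.act_act_reverse _ (hR.act_lt _ hr)]
  · intro h
    refine S.Hbar_le_Bbar (TwGroup.mem_Hbar_of_conjP hS hR hn hc fun r hr => ?_)
    rw [act_append, h r hr, hR.act_reverse_act _ hr]

include hS hR h0 in
/-- The permutation of the orbits respects commutation of the orbit words. -/
theorem perm_wordsComm {β : MulAut ↥W.Tw} {π : Equiv.Perm ι}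
    (hπ : ∀ J g, β g ∈ PT W hS hR h0 (π J) ↔ g ∈ PT W hS hR h0 J) {J J' : ι} (h : WordsComm O J J') :
    WordsComm O (π J) (π J') := by
  have hm : ∀ K, nT W hS hR K ∈ (pair W hS hR h0).S := fun K => (mem_pair_S W hS hR h0).2 ⟨K, rfl⟩
  have key := (prod_swap_iff (pair W hS hR h0) ⟨_, hm J⟩ ⟨_, hm J'⟩).1 ((σ_comm_iff W hS hR h0 J J' _ _).2 h)
  refine (σ_comm_iff W hS hR h0 (π J) (π J') (hm _) (hm _)).1
    ((prod_swap_iff (pair W hS hR h0) ⟨_, hm _⟩ ⟨_, hm _⟩).2 fun g hg g' hg' => ?_)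
  obtain ⟨g, rfl⟩ := β.surjective g
  obtain ⟨g', rfl⟩ := β.surjective g'
  obtain ⟨a, ha, b, hb, e⟩ := key g ((hπ J g).1 hg) g' ((hπ J' g').1 hg')
  exact ⟨β a, (hπ J' a).2 ha, β b, (hπ J b).2 hb, by rw [← map_mul, e, map_mul]⟩

theorem card_eq_of_perm {β : MulAut ↥W.Tw} {π : Equiv.Perm ι}
    (hπ : ∀ J g, β g ∈ XP W (π J) ↔ g ∈ XP W J) (J : ι) :
    Nat.card ↥(fixUS T (O.posJ (π J))) = Nat.card ↥(fixUS T (O.posJ J)) := by
  have e : ∀ K, Nat.card ↥(fixUS T (O.posJ K)) = Nat.card ↥(XP W K) := fun K =>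
    Nat.card_congr
      { toFun := fun u => ⟨⟨u.1, W.fixPos_mem K u.2⟩, u.2.1⟩
        invFun := fun g => ⟨g.1.1, (mem_XP W).1 g.2⟩
        left_inv := fun _ => rfl
        right_inv := fun _ => rfl }
  rw [e, e]
  exact (Nat.card_congr (β.toEquiv.subtypeEquiv fun g => (hπ J g).symm)).symm

end TwAut

end Cfsg.Agent.KSG
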