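import Cfsg.Agent.KSG.TwAutNormal
import Cfsg.Agent.KSG.RankOneParam
import Cfsg.Prelude.Def_KGroupFacts

/-!
# Twisted groups: automorphisms in parameters and the order of the outer automorphism group
-/

set_option autoImplicit false

namespace Cfsg.Agent.KSG.TwAut

open Cfsg.Lie Cfsg.Agent.ChevGrp Cfsg.Agent.ChevTw Cfsg.Agent.BNPair Cfsg.Agent.KSG

/-- An automorphism of the ambient group moving generators by bijections restricts to the subgroup. -/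
theorem exists_restrict {G : Type*} [Group G] {H : Subgroup G} {A : Set G} (hA : H = Subgroup.closure A)
    (e : G ≃* G) (h : e '' A = A) : ∃ φ : MulAut ↥H, ∀ g : ↥H, (φ g : G) = e g := by
  have hm : H.map e.toMonoidHom = H := by
    rw [hA, MonoidHom.map_closure]
    exact congrArg _ h
  exact ⟨(MulEquiv.subgroupMap e H).trans (MulEquiv.subgroupCongr hm), fun g => rfl⟩

variable {D : ChevalleyDatum} {F : Type*} [Field F] {G : Type*} [Group G] {len : ℕ → ℕ}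
  {S : Sys D F G} {T : Twist S} {ι : Type*} {O : Orbits T ι} (W : TwGroup O)

/-- Parameters of the orbit root groups with their diagonal and field symmetries. -/
structure Data where
  fld : ι → Subfield F
  X : (J : ι) → ↥(fld J) → ↥W.Tw
  Y : (J : ι) → ↥(fld J) → ↥W.Tw
  pair : ∀ J, RankOne.Pair (X J) (Y J)
  rangeX : ∀ J g, g ∈ XP W J ↔ ∃ t, X J t = g
  rangeY : ∀ J g, g ∈ XN W J ↔ ∃ t, Y J t = g
  lin : ∀ h ∈ HT W, ∀ J, ∃ a : F, ∀ t u, h * X J t * h⁻¹ = X J u → (u : F) = a * t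
  aut_mem : ∀ (σ : RingAut F) (J : ι) (t : F), t ∈ fld J → σ t ∈ fld J
  top : ∃ J, fld J = ⊤
  ambD : ∀ c : (∀ J, (↥(fld J))ˣ), ∃ e : G ≃* G,
    (∀ r < D.nroots, ∀ t : F, ∃ u, e (S.x r t) = S.x r u) ∧ ∀ J t,
    e (X J t) = X J ((c J : ↥(fld J)) * t) ∧ e (Y J t) = Y J (((c J)⁻¹ : (↥(fld J))ˣ) * t)
  ambF : ∀ σ : RingAut F, ∃ e : G ≃* G,
    (∀ r < D.nroots, ∀ t : F, ∃ u, e (S.x r t) = S.x r u) ∧ ∀ (J : ι) (t : ↥(fld J)),
    e (X J t) = X J ⟨σ t, aut_mem σ J t t.2⟩ ∧ e (Y J t) = Y J ⟨σ t, aut_mem σ J t t.2⟩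

variable {W} (P : Data W)

namespace Data

/-- The parameters of the diagonal automorphisms. -/
abbrev Tor := ∀ J, (↥(P.fld J))ˣ

/-- The restriction of a field automorphism. -/
def res (σ : RingAut F) (J : ι) : ↥(P.fld J) → ↥(P.fld J) := fun t => ⟨σ t, P.aut_mem σ J t t.2⟩

theorem res_bijective (σ : RingAut F) (J : ι) : Function.Bijective (P.res σ J) :=
  ⟨fun a b e => Subtype.ext (σ.injective (congrArg Subtype.val e)),
    fun b => ⟨⟨σ.symm b, P.aut_mem σ.symm J b b.2⟩, Subtype.ext (σ.apply_symm_apply _)⟩⟩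

theorem gen_eq : W.Tw = Subgroup.closure
    {g | ∃ J t, g = ((P.X J t : ↥W.Tw) : G) ∨ g = ((P.Y J t : ↥W.Tw) : G)} := by
  refine W.gen.trans (congrArg _ ?_)
  ext g
  constructor
  · rintro ⟨J, hg | hg⟩
    · obtain ⟨t, ht⟩ := (P.rangeX J ⟨g, W.fixPos_mem J hg⟩).1 hg.1
      exact ⟨J, t, Or.inl (congrArg Subtype.val ht).symm⟩
    · obtain ⟨t, ht⟩ := (P.rangeY J ⟨g, W.fixNeg_mem J hg⟩).1 hg.1
      exact ⟨J, t, Or.inr (congrArg Subtype.val ht).symm⟩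
  · rintro ⟨J, t, rfl | rfl⟩
    · exact ⟨J, Or.inl ((mem_XP W).1 ((P.rangeX J _).2 ⟨t, rfl⟩))⟩
    · exact ⟨J, Or.inr ((mem_XN W).1 ((P.rangeY J _).2 ⟨t, rfl⟩))⟩

theorem aut_ext {α β : MulAut ↥W.Tw} (hX : ∀ J t, α (P.X J t) = β (P.X J t))
    (hY : ∀ J t, α (P.Y J t) = β (P.Y J t)) : α = β := by
  refine MulEquiv.ext fun g => ?_
  obtain ⟨g, hg⟩ := g
  have key : ∀ x ∈ W.Tw, ∀ hx : x ∈ W.Tw, α ⟨x, hx⟩ = β ⟨x, hx⟩ := by
    intro x hx
    rw [P.gen_eq] at hx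
    refine Subgroup.closure_induction (p := fun x _ => ∀ hx : x ∈ W.Tw, α ⟨x, hx⟩ = β ⟨x, hx⟩) ?_ ?_ ?_ ?_ hx
    · rintro x ⟨J, t, rfl | rfl⟩ hx
      · exact hX J t
      · exact hY J t
    · exact fun _ => (map_one α).trans (map_one β).symm
    · intro a b ha hb ea eb hab
      rw [← P.gen_eq] at ha hb
      rw [show (⟨a * b, hab⟩ : ↥W.Tw) = ⟨a, ha⟩ * ⟨b, hb⟩ from rfl, map_mul, map_mul, ea ha, eb hb]
    · intro a ha ea ha'
      rw [← P.gen_eq] at ha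
      rw [show (⟨a⁻¹, ha'⟩ : ↥W.Tw) = (⟨a, ha⟩)⁻¹ from rfl, map_inv, map_inv, ea ha]
  exact key g hg hg

theorem amb_US {A : Set ℕ} (hA : ∀ r ∈ A, r < D.nroots) {e : G ≃* G}
    (he : ∀ r < D.nroots, ∀ t : F, ∃ u, e (S.x r t) = S.x r u) {g : G} (hg : g ∈ S.US A) :
    e g ∈ S.US A := by
  refine Subgroup.closure_induction (p := fun g _ => e g ∈ S.US A) ?_ ?_ ?_ ?_ hg
  · rintro _ ⟨r, hr, t, rfl⟩
    obtain ⟨u, hu⟩ := he r (hA r hr) t
    rw [hu]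
    exact S.x_mem_US hr u
  · rw [map_one]
    exact one_mem _
  · intro a b _ _ ha hb
    rw [map_mul]
    exact mul_mem ha hb
  · intro a _ ha
    rw [map_inv]
    exact inv_mem ha

/-- A map of a finite type preserving a set preserves its complement. -/
theorem mem_iff_of_maps {α : Type*} [Finite α] {f : α → α} (hf : Function.Injective f) {s : Set α}
    (h : ∀ x ∈ s, f x ∈ s) (x : α) : f x ∈ s ↔ x ∈ s := by
  refine ⟨fun hx => ?_, h x⟩
  have e : f '' s = s := Set.eq_of_subset_of_ncard_le (Set.image_subset_iff.2 h)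
    (Set.ncard_image_of_injective s hf).ge (Set.toFinite _)
  rw [← e] at hx
  obtain ⟨y, hy, ey⟩ := hx
  exact hf ey ▸ hy

theorem exists_diag_field [Finite ↥W.Tw] (c : P.Tor) (σ : RingAut F) :
    ∃ φ : MulAut ↥W.Tw, Normalised W φ ∧ ∀ J t,
      φ (P.X J t) = P.X J ((c J : ↥(P.fld J)) * P.res σ J t) ∧
        φ (P.Y J t) = P.Y J (((c J)⁻¹ : (↥(P.fld J))ˣ) * P.res σ J t) := by
  obtain ⟨e, he0, he⟩ := P.ambD c
  obtain ⟨e', he0', he'⟩ := P.ambF σ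
  have hval : ∀ J t, (e'.trans e) (P.X J t) = P.X J ((c J : ↥(P.fld J)) * P.res σ J t) ∧
      (e'.trans e) (P.Y J t) = P.Y J (((c J)⁻¹ : (↥(P.fld J))ˣ) * P.res σ J t) := fun J t => by
    simp only [MulEquiv.trans_apply, (he' J t).1, (he' J t).2]
    exact ⟨(he J _).1, (he J _).2⟩
  obtain ⟨φ, hφ⟩ := exists_restrict P.gen_eq (e'.trans e) (by
    ext g
    constructor
    · rintro ⟨_, ⟨J, t, rfl | rfl⟩, rfl⟩
      · exact ⟨J, _, Or.inl (hval J t).1⟩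
      · exact ⟨J, _, Or.inr (hval J t).2⟩
    · rintro ⟨J, t, rfl | rfl⟩
      · obtain ⟨u, rfl⟩ := ((c J).mulLeft.bijective.comp (P.res_bijective σ J)).2 t
        exact ⟨_, ⟨J, u, Or.inl rfl⟩, (hval J u).1⟩
      · obtain ⟨u, rfl⟩ := (((c J)⁻¹).mulLeft.bijective.comp (P.res_bijective σ J)).2 t
        exact ⟨_, ⟨J, u, Or.inr rfl⟩, (hval J u).2⟩)
  refine ⟨φ, ⟨fun g => mem_iff_of_maps φ.injective (s := UT W) (fun x hx => ?_) g,
    fun g => mem_iff_of_maps φ.injective (s := VT W) (fun x hx => ?_) g⟩,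
    fun J t => ⟨Subtype.ext ((hφ _).trans (hval J t).1), Subtype.ext ((hφ _).trans (hval J t).2)⟩⟩
  · show (φ x : G) ∈ S.Ubar
    rw [hφ, MulEquiv.trans_apply]
    exact amb_US (fun r hr => hr.1) he0 (amb_US (fun r hr => hr.1) he0' hx)
  · show (φ x : G) ∈ S.Vbar
    rw [hφ, MulEquiv.trans_apply]
    exact amb_US (fun r hr => hr.1) he0 (amb_US (fun r hr => hr.1) he0' hx)

variable [Finite ↥W.Tw]

/-- The diagonal-field automorphisms. -/
noncomputable def Φ (x : P.Tor × RingAut F) : MulAut ↥W.Tw := (P.exists_diag_field x.1 x.2).choose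

theorem Φ_spec (c : P.Tor) (σ : RingAut F) (J : ι) (t : ↥(P.fld J)) :
    P.Φ (c, σ) (P.X J t) = P.X J ((c J : ↥(P.fld J)) * P.res σ J t) ∧
      P.Φ (c, σ) (P.Y J t) = P.Y J (((c J)⁻¹ : (↥(P.fld J))ˣ) * P.res σ J t) :=
  (P.exists_diag_field c σ).choose_spec.2 J t

theorem Φ_normalised (x : P.Tor × RingAut F) : Normalised W (P.Φ x) :=
  (P.exists_diag_field x.1 x.2).choose_spec.1

theorem res_one (σ : RingAut F) (J : ι) : P.res σ J 1 = 1 := Subtype.ext (map_one σ)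

theorem Φ_injective : Function.Injective P.Φ := by
  rintro ⟨c, σ⟩ ⟨c', σ'⟩ e
  have h : ∀ J t, (c J : ↥(P.fld J)) * P.res σ J t = (c' J : ↥(P.fld J)) * P.res σ' J t := fun J t =>
    (P.pair J).injX (by rw [← (P.Φ_spec c σ J t).1, ← (P.Φ_spec c' σ' J t).1, e])
  have hc : c = c' := funext fun J => Units.ext (by
    have h1 := h J 1
    rwa [res_one, res_one, mul_one, mul_one] at h1)
  subst hc
  refine Prod.ext rfl (RingEquiv.ext fun x => ?_)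
  obtain ⟨J, hJ⟩ := P.top
  exact congrArg Subtype.val (mul_left_cancel₀ (c J).ne_zero (h J ⟨x, hJ ▸ trivial⟩))

/-- The rank-one maps of an automorphism respecting each orbit. -/
theorem exists_decomp [Finite F] {β : MulAut ↥W.Tw}
    (hsync : ∀ (β : MulAut ↥W.Tw) (e : ∀ J, ↥(P.fld J) ≃+* ↥(P.fld J)),
      (∀ J t, β (P.X J t) = P.X J (e J t) ∧ β (P.Y J t) = P.Y J (e J t)) →
        ∃ σ : RingAut F, ∀ J t, e J t = P.res σ J t)
    (hX : ∀ J g, β g ∈ XP W J ↔ g ∈ XP W J) (hY : ∀ J g, β g ∈ XN W J ↔ g ∈ XN W J) :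
    ∃ x : P.Tor × RingAut F, β = P.Φ x := by
  have h1 : ∀ J t, ∃ u, P.X J u = β (P.X J t) := fun J t =>
    (P.rangeX J _).1 ((hX J _).2 ((P.rangeX J _).2 ⟨t, rfl⟩))
  have h2 : ∀ J t, ∃ u, P.Y J u = β (P.Y J t) := fun J t =>
    (P.rangeY J _).1 ((hY J _).2 ((P.rangeY J _).2 ⟨t, rfl⟩))
  choose σ₁ hσ₁ using h1
  choose τ₁ hτ₁ using h2
  have hbij : ∀ J, Function.Bijective (σ₁ J) := fun J => Finite.injective_iff_bijective.1 fun a b e =>
    (P.pair J).injX (β.injective (by rw [← hσ₁, ← hσ₁, e]))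
  have hne : ∀ J, σ₁ J 1 ≠ 0 := fun J e => by
    have := hσ₁ J 1
    rw [e, (P.pair J).X_zero, eq_comm, EmbeddingLike.map_eq_one_iff, ← (P.pair J).X_zero] at this
    exact one_ne_zero ((P.pair J).injX this)
  set c : P.Tor := fun J => Units.mk0 _ (hne J)
  set d := P.Φ (c, 1) with hd
  have hdX : ∀ J t, d⁻¹ (P.X J t) = P.X J ((c J : ↥(P.fld J))⁻¹ * t) := fun J t => by
    show d.symm _ = _
    rw [MulEquiv.symm_apply_eq, hd, (P.Φ_spec c 1 J _).1]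
    congr 1
    exact (mul_inv_cancel_left₀ (c J).ne_zero t).symm
  have hdY : ∀ J t, d⁻¹ (P.Y J t) = P.Y J ((c J : ↥(P.fld J)) * t) := fun J t => by
    show d.symm _ = _
    rw [MulEquiv.symm_apply_eq, hd, (P.Φ_spec c 1 J _).2]
    congr 1
    exact (Units.inv_mul_cancel_left (c J) t).symm
  have hH : ∀ J, RankOne.Hom (P.X J) (P.Y J) (P.X J) (P.Y J) (d⁻¹ * β)
      (fun t => (c J : ↥(P.fld J))⁻¹ * σ₁ J t) (fun t => (c J : ↥(P.fld J)) * τ₁ J t) := fun J =>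
    ⟨fun t => by rw [MulAut.mul_apply, ← hσ₁, hdX], fun t => by rw [MulAut.mul_apply, ← hτ₁, hdY],
      (Equiv.mulLeft₀ _ (inv_ne_zero (c J).ne_zero)).bijective.comp (hbij J),
      inv_mul_cancel₀ (hne J)⟩
  choose e he he' using fun J => (hH J).exists_ringEquiv (P.pair J) (P.pair J)
  obtain ⟨σ, hσ⟩ := hsync (d⁻¹ * β) e fun J t =>
    ⟨by rw [(hH J).pos, he], by rw [(hH J).neg, he']⟩
  refine ⟨(c, σ), P.aut_ext (fun J t => ?_) (fun J t => ?_)⟩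
  · rw [(P.Φ_spec c σ J t).1, ← hσ₁]
    congr 1
    rw [← hσ, ← he, mul_inv_cancel_left₀ (c J).ne_zero]
  · rw [(P.Φ_spec c σ J t).2, ← hτ₁]
    congr 1
    rw [← hσ, ← he', Units.inv_mul_cancel_left]

variable (hS : Rules D F) (hR : RootTable D len) {ks0 : List ι} (h0 : IsLongest O ks0)
include hS hR h0

/-- Conjugation by a torus element is a diagonal automorphism. -/
theorem exists_torus [Finite F]
    (hsync : ∀ (β : MulAut ↥W.Tw) (e : ∀ J, ↥(P.fld J) ≃+* ↥(P.fld J)),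
      (∀ J t, β (P.X J t) = P.X J (e J t) ∧ β (P.Y J t) = P.Y J (e J t)) →
        ∃ σ : RingAut F, ∀ J t, e J t = P.res σ J t)
    {h : ↥W.Tw} (hh : h ∈ HT W) : ∃ a : P.Tor, MulAut.conj h = P.Φ (a, 1) := by
  have hn : ∀ (A : Set ℕ), (∀ r ∈ A, r < D.nroots) → ∀ g : ↥W.Tw,
      MulAut.conj h g ∈ (S.US A).subgroupOf W.Tw ↔ g ∈ (S.US A).subgroupOf W.Tw := fun A hA g => by
    simp only [MulAut.conj_apply, Subgroup.mem_subgroupOf, Subgroup.coe_mul, Subgroup.coe_inv]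
    exact (Subgroup.mem_normalizer_iff.1 (S.Hbar_le_normalizer_US hS hR hA hh) _).symm
  obtain ⟨⟨a, σ⟩, e⟩ := P.exists_decomp hsync (β := MulAut.conj h) (fun J => hn _ O.posJ_lt)
    (fun J => hn _ O.negJ_lt)
  refine ⟨a, ?_⟩
  suffices hσ : σ = 1 by rwa [hσ] at e
  refine RingEquiv.ext fun x => ?_
  obtain ⟨J, hJ⟩ := P.top
  obtain ⟨b, hb⟩ := P.lin h hh J
  have key : ∀ t : ↥(P.fld J), ((a J : ↥(P.fld J)) : F) * σ t = b * t := fun t => by
    rw [← hb t _ (by rw [← MulAut.conj_apply, e, (P.Φ_spec a σ J t).1])]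
    rfl
  have h1 := key 1
  rw [OneMemClass.coe_one, map_one, mul_one, mul_one] at h1
  have h2 := key ⟨x, hJ ▸ trivial⟩
  rw [h1] at h2
  refine mul_left_cancel₀ (fun h0 : b = 0 => (a J).ne_zero (Subtype.ext (h1.trans h0))) h2

/-- The order of the outer automorphism group against the torus. -/
theorem card_out_mul [Finite F] [Finite ι] (hθ : Function.Injective S.θ)
    (hν : ∀ J, (∀ r ∈ O.negJ J, act D (O.word ks0) r ∈ O.posJ J) ∧
      ∀ r ∈ O.posJ J, act D (O.word ks0).reverse r ∈ O.negJ J)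
    (hperm : ∀ (β : MulAut ↥W.Tw) (π : Equiv.Perm ι), (∀ (J : ι) (g : ↥W.Tw),
      (β g ∈ XP W (π J) ↔ g ∈ XP W J) ∧ (β g ∈ XN W (π J) ↔ g ∈ XN W J) ∧
      (β g ∈ PT W hS hR h0 (π J) ↔ g ∈ PT W hS hR h0 J)) → π = 1)
    (hsync : ∀ (β : MulAut ↥W.Tw) (e : ∀ J, ↥(P.fld J) ≃+* ↥(P.fld J)),
      (∀ J t, β (P.X J t) = P.X J (e J t) ∧ β (P.Y J t) = P.Y J (e J t)) →
        ∃ σ : RingAut F, ∀ J t, e J t = P.res σ J t) :
    Nat.card (Cfsg.Out ↥W.Tw) * Nat.card ↥(HT W) = Nat.card P.Tor * Nat.card (RingAut F) := by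
  choose a ha using fun h : ↥(HT W) => P.exists_torus hS hR h0 hsync h.2
  have hsurj : ∀ y : Cfsg.Out ↥W.Tw, ∃ x, QuotientGroup.mk' (Cfsg.Inn ↥W.Tw) (P.Φ x) = y := by
    intro y
    obtain ⟨θ, rfl⟩ := QuotientGroup.mk'_surjective _ y
    obtain ⟨g, hg⟩ := exists_normalised W hS hR h0 hθ θ
    obtain ⟨π, hπ⟩ := exists_perm W hS hR h0 hν hg
    obtain rfl := hperm _ π hπ
    obtain ⟨x, hx⟩ := P.exists_decomp hsync (β := MulAut.conj g * θ)
      (fun J g' => (hπ J g').1) (fun J g' => (hπ J g').2.1)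
    refine ⟨x, ?_⟩
    rw [← hx, map_mul, show QuotientGroup.mk' (Cfsg.Inn ↥W.Tw) (MulAut.conj g) = 1 from
      (QuotientGroup.eq_one_iff _).2 ⟨g, rfl⟩, one_mul]
  choose b hb using hsurj
  have hmul : ∀ (h : ↥(HT W)) (x : P.Tor × RingAut F),
      MulAut.conj (h : ↥W.Tw) * P.Φ x = P.Φ (a h * x.1, x.2) := by
    rintro h ⟨c, σ⟩
    rw [ha]
    refine P.aut_ext (fun J t => ?_) (fun J t => ?_)
    · rw [MulAut.mul_apply, (P.Φ_spec c σ J t).1, (P.Φ_spec (a h) 1 J _).1, (P.Φ_spec _ σ J t).1]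
      congr 1
      rw [Pi.mul_apply, Units.val_mul, mul_assoc]
      rfl
    · rw [MulAut.mul_apply, (P.Φ_spec c σ J t).2, (P.Φ_spec (a h) 1 J _).2, (P.Φ_spec _ σ J t).2]
      congr 1
      rw [Pi.mul_apply, mul_inv, Units.val_mul, mul_assoc]
      rfl
  rw [← Nat.card_prod, ← Nat.card_prod]
  refine Nat.card_eq_of_bijective (fun z => (a z.2 * (b z.1).1, (b z.1).2)) ⟨?_, ?_⟩
  · rintro ⟨y, h⟩ ⟨y', h'⟩ e
    have e1 : MulAut.conj (h : ↥W.Tw) * P.Φ (b y) = MulAut.conj (h' : ↥W.Tw) * P.Φ (b y') := by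
      rw [hmul, hmul]
      exact congrArg P.Φ e
    have hy : y = y' := by
      rw [← hb y, ← hb y']
      have e2 := congrArg (QuotientGroup.mk' (Cfsg.Inn ↥W.Tw)) e1
      rwa [map_mul, map_mul, show QuotientGroup.mk' (Cfsg.Inn ↥W.Tw) (MulAut.conj (h : ↥W.Tw)) = 1 from
          (QuotientGroup.eq_one_iff _).2 ⟨_, rfl⟩, show QuotientGroup.mk' (Cfsg.Inn ↥W.Tw)
          (MulAut.conj (h' : ↥W.Tw)) = 1 from (QuotientGroup.eq_one_iff _).2 ⟨_, rfl⟩, one_mul,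
        one_mul] at e2
    subst hy
    have e3 : MulAut.conj ((h : ↥W.Tw)⁻¹ * h') = 1 := by
      rw [map_mul, map_inv, mul_right_cancel e1, inv_mul_cancel]
    have hz : (h : ↥W.Tw)⁻¹ * h' = 1 := by
      have hcore : (h : ↥W.Tw)⁻¹ * h' ∈ ((S.Bbar ⊓ W.Tw).subgroupOf W.Tw).normalCore := by
        intro g
        have e4 : g * ((h : ↥W.Tw)⁻¹ * h') * g⁻¹ = (h : ↥W.Tw)⁻¹ * h' := by
          have e5 := DFunLike.congr_fun e3 g
          rw [MulAut.conj_apply, MulAut.one_apply, mul_inv_eq_iff_eq_mul] at e5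
          rw [mul_inv_eq_iff_eq_mul, e5]
        rw [e4]
        exact mul_mem (inv_mem (HT_le_BT W h.2)) (HT_le_BT W h'.2)
      rwa [W.core_eq_bot hS hR h0 hθ, Subgroup.mem_bot] at hcore
    rw [Subtype.ext (inv_mul_eq_one.1 hz)]
  · rintro ⟨c, σ⟩
    set y := QuotientGroup.mk' (Cfsg.Inn ↥W.Tw) (P.Φ (c, σ))
    obtain ⟨g, hg⟩ := (QuotientGroup.eq_iff_div_mem.1 (hb y).symm :
      P.Φ (c, σ) / P.Φ (b y) ∈ Cfsg.Inn ↥W.Tw)
    have e : P.Φ (c, σ) = MulAut.conj g * P.Φ (b y) := by rw [hg, div_mul_cancel]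
    have hg' : g ∈ HT W := by
      rw [mem_HT_iff W hS hR h0, Subgroup.mem_normalizer_iff, Subgroup.mem_normalizer_iff]
      constructor <;> intro z <;> obtain ⟨z, rfl⟩ := (P.Φ (b y)).surjective z
      · rw [(P.Φ_normalised _).1, ← (P.Φ_normalised (c, σ)).1, e, MulAut.mul_apply, MulAut.conj_apply]
      · rw [(P.Φ_normalised _).2, ← (P.Φ_normalised (c, σ)).2, e, MulAut.mul_apply, MulAut.conj_apply]
    exact ⟨(y, ⟨g, hg'⟩), (P.Φ_injective (e.trans (hmul ⟨g, hg'⟩ _))).symm⟩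

end Data

end Cfsg.Agent.KSG.TwAut
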