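import Cfsg.Agent.KSG.TwAutGL

/-!
# Twisted groups with non-abelian orbit groups: field automorphisms and rigidity of the negative part
-/

set_option autoImplicit false

namespace Cfsg.Agent.KSG.TwAut

open Cfsg.Lie Cfsg.Agent.ChevGrp Cfsg.Agent.ChevTw Cfsg.Agent.BNPair Cfsg.Agent.KSG

variable {D : ChevalleyDatum} {F : Type*} [Field F] {G : Type*} [Group G] {len : ℕ → ℕ}
  {S : Sys D F G} {T : Twist S} {ι : Type*} {O : Orbits T ι} (W : TwGroup O)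

/-- An ambient field automorphism commuting with the twist preserves the fixed parts. -/
theorem amb_fixUS {e : G ≃* G} {σ : RingAut F}
    (he : ∀ r < D.nroots, ∀ t : F, e (S.x r t) = S.x r (σ t))
    (hf : ∀ r < D.nroots, ∀ t : F, T.f r (σ t) = σ (T.f r t)) {A : Set ℕ} (hA : ∀ r ∈ A, r < D.nroots)
    {g : G} (hg : g ∈ fixUS T A) : e g ∈ fixUS T A := by
  refine ⟨Data.amb_US hA (fun r hr t => ⟨_, he r hr t⟩) hg.1, ?_⟩
  have key : ∀ g ∈ S.Gbar, e g ∈ S.Gbar ∧ T.sig (e g) = e (T.sig g) := by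
    intro g hg
    refine Subgroup.closure_induction (p := fun g _ => e g ∈ S.Gbar ∧ T.sig (e g) = e (T.sig g)) ?_ ?_ ?_ ?_ hg
    · rintro _ ⟨r, hr, t, rfl⟩
      rw [he r hr t]
      refine ⟨S.x_mem_Gbar hr _, ?_⟩
      rw [T.sig_x r hr, T.sig_x r hr, hf r hr, he _ (T.ρ_lt r hr)]
    · rw [T.sig_one, map_one]
      exact ⟨one_mem _, T.sig_one⟩
    · rintro a b ha hb ⟨ma, ea⟩ ⟨mb, eb⟩
      rw [map_mul, T.sig_mul _ ma _ mb, T.sig_mul _ ha _ hb, ea, eb, map_mul]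
      exact ⟨mul_mem ma mb, rfl⟩
    · rintro a ha ⟨ma, ea⟩
      rw [map_inv, T.sig_inv ma, T.sig_inv ha, ea, map_inv]
      exact ⟨inv_mem ma, rfl⟩
  rw [(key g (Twist.US_le_Gbar hA hg.1)).2, hg.2]

/-- The automorphism of the twisted group induced by an ambient field automorphism. -/
theorem exists_field_aut [Finite ↥W.Tw] (σ : RingAut F) (e : G ≃* G)
    (he : ∀ r < D.nroots, ∀ t : F, e (S.x r t) = S.x r (σ t))
    (hf : ∀ r < D.nroots, ∀ t : F, T.f r (σ t) = σ (T.f r t)) :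
    ∃ φ : MulAut ↥W.Tw, Normalised W φ ∧ ∀ g : ↥W.Tw, (φ g : G) = e g := by
  have he' : ∀ r < D.nroots, ∀ t : F, e.symm (S.x r t) = S.x r (σ.symm t) := fun r hr t => by
    rw [MulEquiv.symm_apply_eq, he r hr, RingEquiv.apply_symm_apply]
  have hf' : ∀ r < D.nroots, ∀ t : F, T.f r (σ.symm t) = σ.symm (T.f r t) := fun r hr t => by
    rw [RingEquiv.eq_symm_apply, ← hf r hr, RingEquiv.apply_symm_apply]
  obtain ⟨φ, hφ⟩ := exists_restrict W.gen e (by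
    ext g
    constructor
    · rintro ⟨u, ⟨J, hu | hu⟩, rfl⟩
      · exact ⟨J, Or.inl (amb_fixUS he hf O.posJ_lt hu)⟩
      · exact ⟨J, Or.inr (amb_fixUS he hf O.negJ_lt hu)⟩
    · rintro ⟨J, hu | hu⟩
      · exact ⟨e.symm g, ⟨J, Or.inl (amb_fixUS he' hf' O.posJ_lt hu)⟩, e.apply_symm_apply g⟩
      · exact ⟨e.symm g, ⟨J, Or.inr (amb_fixUS he' hf' O.negJ_lt hu)⟩, e.apply_symm_apply g⟩)
  refine ⟨φ, ⟨fun g => Data.mem_iff_of_maps φ.injective (s := UT W) (fun x hx => ?_) g,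
    fun g => Data.mem_iff_of_maps φ.injective (s := VT W) (fun x hx => ?_) g⟩, hφ⟩
  · show (φ x : G) ∈ S.Ubar
    rw [hφ]
    exact Data.amb_US (fun r hr => hr.1) (fun r hr t => ⟨_, he r hr t⟩) hx
  · show (φ x : G) ∈ S.Vbar
    rw [hφ]
    exact Data.amb_US (fun r hr => hr.1) (fun r hr t => ⟨_, he r hr t⟩) hx

/-- Two automorphisms agreeing on all orbit groups are equal. -/
theorem aut_ext_XP {α β : MulAut ↥W.Tw} (hP : ∀ J, ∀ g ∈ XP W J, α g = β g)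
    (hN : ∀ J, ∀ g ∈ XN W J, α g = β g) : α = β := by
  refine MulEquiv.ext fun g => ?_
  obtain ⟨g, hg⟩ := g
  have key : ∀ x ∈ W.Tw, ∀ hx : x ∈ W.Tw, α ⟨x, hx⟩ = β ⟨x, hx⟩ := by
    intro x hx
    rw [W.gen] at hx
    refine Subgroup.closure_induction (p := fun x _ => ∀ hx : x ∈ W.Tw, α ⟨x, hx⟩ = β ⟨x, hx⟩) ?_ ?_ ?_ ?_ hx
    · rintro x ⟨J, h | h⟩ hx
      · exact hP J _ h.1
      · exact hN J _ h.1
    · exact fun _ => (map_one α).trans (map_one β).symm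
    · intro a b ha hb ea eb hab
      rw [← W.gen] at ha hb
      rw [show (⟨a * b, hab⟩ : ↥W.Tw) = ⟨a, ha⟩ * ⟨b, hb⟩ from rfl, map_mul, map_mul, ea ha, eb hb]
    · intro a ha ea ha'
      rw [← W.gen] at ha
      rw [show (⟨a⁻¹, ha'⟩ : ↥W.Tw) = (⟨a, ha⟩)⁻¹ from rfl, map_inv, map_inv, ea ha]
  exact key g hg hg

variable (hS : Rules D F) (hR : RootTable D len) {ks0 : List ι} (h0 : IsLongest O ks0)
include hS hR

theorem conj_nT_HT {h : ↥W.Tw} (hh : h ∈ HT W) (J : ι) :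
    (nT W hS hR J)⁻¹ * h * nT W hS hR J ∈ HT W := by
  simp only [HT, Subgroup.mem_subgroupOf, Subgroup.coe_mul, Subgroup.coe_inv] at hh ⊢
  simpa [nT] using Sys.conj_mem_Hbar hS hR (inv_mem (W.nJ_spec hS hR J).1) hh

theorem exists_XN_decomp (J : ι) {v : ↥W.Tw} (hv : v ∈ XN W J) (hv1 : v ≠ 1) :
    ∃ a ∈ XP W J, ∃ b ∈ BT W, v = a * nT W hS hR J * b := by
  have hne : (v : G) ≠ 1 := fun h => hv1 (Subtype.ext h)
  obtain ⟨a, ha, u, hu, m, hmN, hmc, hmT, em⟩ := W.neg_decomp hS hR J ((mem_XN W).1 hv) hne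
  obtain ⟨hnN, hnc, hnT⟩ := W.nJ_spec hS hR J
  have hh : (W.nJ hS hR J)⁻¹ * m ∈ S.Hbar :=
    TwGroup.mem_Hbar_of_conjP hS hR (mul_mem (inv_mem hnN) hmN) ((hnc.inv hR).mul hR hmc) fun r hr => by
      rw [act_append]; exact hR.act_reverse_act _ hr
  refine ⟨⟨a, W.fixPos_mem J ha⟩, ha.1,
    ⟨(W.nJ hS hR J)⁻¹ * m * u, mul_mem (mul_mem (inv_mem hnT) hmT) (W.fixPos_mem J hu)⟩,
    (mem_BT W).2 (mul_mem (S.Hbar_le_Bbar hh) (S.Ubar_le_Bbar (S.US_mono (fun r hr => hr.1) hu.1))),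
    Subtype.ext ?_⟩
  rw [em]
  show a * m * u = a * W.nJ hS hR J * ((W.nJ hS hR J)⁻¹ * m * u)
  group

theorem eq_of_mul_nT (J : ι) {c c' b b' : ↥W.Tw} (hc : c ∈ XP W J) (hc' : c' ∈ XP W J) (hb : b ∈ BT W)
    (hb' : b' ∈ BT W) (e : c * nT W hS hR J * b = c' * nT W hS hR J * b') : c = c' := by
  suffices h1 : (nT W hS hR J)⁻¹ * (c⁻¹ * c') * nT W hS hR J = 1 by
    refine inv_mul_eq_one.1 ?_
    calc c⁻¹ * c' = nT W hS hR J * ((nT W hS hR J)⁻¹ * (c⁻¹ * c') * nT W hS hR J) * (nT W hS hR J)⁻¹ := by group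
      _ = 1 := by rw [h1]; group
  refine eq_one_of_VT_BT W hS hR
    (XN_le_VT W J ((conj_nT W hS hR J).2.2.1 (mul_mem (inv_mem hc) hc'))) ?_
  have h : (nT W hS hR J)⁻¹ * (c⁻¹ * c') * nT W hS hR J = b * b'⁻¹ := by
    have : c' = c * nT W hS hR J * b * b'⁻¹ * (nT W hS hR J)⁻¹ := by rw [e]; group
    rw [this]
    group
  rw [h]
  exact mul_mem hb (inv_mem hb')

include h0

/-- An automorphism trivial on the torus and on the positive part of an orbit is trivial on the negative one. -/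
theorem fix_XN {β : MulAut ↥W.Tw} (hβ : Normalised W β) (J : ι)
    (hPT : ∀ g, β g ∈ PT W hS hR h0 J ↔ g ∈ PT W hS hR h0 J) (hXN : ∀ g, β g ∈ XN W J ↔ g ∈ XN W J)
    (hP : ∀ g ∈ XP W J, β g = g) (hH : ∀ h ∈ HT W, β h = h)
    (hfree : ∀ c ∈ XP W J, (∀ h ∈ HT W, h * c * h⁻¹ = c) → c = 1) {v : ↥W.Tw} (hv : v ∈ XN W J) :
    β v = v := by
  set n := nT W hS hR J with hn
  have hnB : β n ∉ BT W := fun h => nT_not_mem_BT W hS hR J ((hβ.mem_BT W hS hR h0 _).1 h)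
  obtain ⟨b, hb, b', hb', e⟩ := (PT_cases W hS hR h0 J ((hPT n).2 (nT_mem_PT W hS hR h0 J))).resolve_left hnB
  obtain ⟨c, hc, b'', hb'', e'⟩ := mem_double W hS hR h0 J hb hb'
  rw [e'] at e
  have hc1 : c = 1 := by
    refine hfree c hc fun h hh => ?_
    have hh' := conj_nT_HT W hS hR hh J
    have h1 : β (h * n * (n⁻¹ * h * n)⁻¹) = β n := congrArg β (by group)
    rw [map_mul, map_mul, map_inv, hH h hh, hH _ hh', e] at h1
    have hcc : h * c * h⁻¹ ∈ XP W J := by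
      simp only [XP, Subgroup.mem_subgroupOf, Subgroup.coe_mul, Subgroup.coe_inv] at hc ⊢
      exact (Subgroup.mem_normalizer_iff.1 (S.Hbar_le_normalizer_US hS hR O.posJ_lt hh) _).1 hc
    refine eq_of_mul_nT W hS hR J hcc hc (b := (n⁻¹ * h * n) * b'' * (n⁻¹ * h * n)⁻¹) ?_ hb'' ?_
    · exact mul_mem (mul_mem (HT_le_BT W hh') hb'') (inv_mem (HT_le_BT W hh'))
    · refine Eq.trans ?_ h1
      rw [hn]
      group
  rw [hc1, one_mul] at e
  rcases eq_or_ne v 1 with rfl | hv1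
  · exact map_one β
  obtain ⟨a, ha, b1, hb1, ev⟩ := exists_XN_decomp W hS hR J hv hv1
  have e2 : β v = a * n * (b'' * β b1) := by
    rw [ev, map_mul, map_mul, hP a ha, e, hn]
    group
  refine inv_mul_eq_one.1 (eq_one_of_VT_BT W hS hR
    (mul_mem (inv_mem (XN_le_VT W J ((hXN v).2 hv))) (XN_le_VT W J hv)) ?_)
  have h3 : (β v)⁻¹ * v = (b'' * β b1)⁻¹ * b1 := by rw [e2, ev, hn]; group
  rw [h3]
  exact mul_mem (inv_mem (mul_mem hb'' ((hβ.mem_BT W hS hR h0 _).2 hb1))) hb1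

theorem Normalised.conj_mul {β : MulAut ↥W.Tw} (hβ : Normalised W β) {h : ↥W.Tw} (hh : h ∈ HT W) :
    Normalised W (MulAut.conj h * β) := by
  obtain ⟨hU, hV⟩ := (mem_HT_iff W hS hR h0).1 hh
  refine ⟨fun g => ?_, fun g => ?_⟩
  · rw [← hβ.1 g, MulAut.mul_apply, MulAut.conj_apply]
    exact (Subgroup.mem_normalizer_iff.1 hU _).symm
  · rw [← hβ.2 g, MulAut.mul_apply, MulAut.conj_apply]
    exact (Subgroup.mem_normalizer_iff.1 hV _).symm

/-- The outer automorphism group when every normalised automorphism is a torus element times a field one. -/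
theorem card_out_of_field [Finite F] [Finite ↥W.Tw] (hθ : Function.Injective S.θ)
    (Φ : RingAut F → MulAut ↥W.Tw) (hΦ : ∀ σ, Normalised W (Φ σ))
    (hall : ∀ β : MulAut ↥W.Tw, Normalised W β → ∃ h ∈ HT W, ∃ σ, β = MulAut.conj h * Φ σ)
    (hinj : ∀ h ∈ HT W, ∀ σ σ', Φ σ = MulAut.conj h * Φ σ' → σ = σ') :
    Nat.card (Cfsg.Out ↥W.Tw) = Nat.card (RingAut F) := by
  refine (Nat.card_eq_of_bijective (fun σ => QuotientGroup.mk' (Cfsg.Inn ↥W.Tw) (Φ σ)) ⟨?_, ?_⟩).symm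
  · intro σ σ' e
    obtain ⟨g, hg⟩ := (QuotientGroup.eq_iff_div_mem.1 e : Φ σ / Φ σ' ∈ Cfsg.Inn ↥W.Tw)
    have e' : Φ σ = MulAut.conj g * Φ σ' := by rw [hg, div_mul_cancel]
    refine hinj g ?_ σ σ' e'
    rw [mem_HT_iff W hS hR h0, Subgroup.mem_normalizer_iff, Subgroup.mem_normalizer_iff]
    constructor <;> intro z <;> obtain ⟨z, rfl⟩ := (Φ σ').surjective z
    · rw [(hΦ σ').1, ← (hΦ σ).1, e', MulAut.mul_apply, MulAut.conj_apply]
    · rw [(hΦ σ').2, ← (hΦ σ).2, e', MulAut.mul_apply, MulAut.conj_apply]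
  · intro y
    obtain ⟨θ, rfl⟩ := QuotientGroup.mk'_surjective _ y
    obtain ⟨g, hg⟩ := exists_normalised W hS hR h0 hθ θ
    obtain ⟨h, -, σ, e⟩ := hall _ hg
    refine ⟨σ, ?_⟩
    have hi : ∀ x : ↥W.Tw, QuotientGroup.mk' (Cfsg.Inn ↥W.Tw) (MulAut.conj x) = 1 := fun x =>
      (QuotientGroup.eq_one_iff _).2 ⟨x, rfl⟩
    have := congrArg (QuotientGroup.mk' (Cfsg.Inn ↥W.Tw)) e
    rw [map_mul, map_mul, hi, hi, one_mul, one_mul] at this
    exact this.symm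

end Cfsg.Agent.KSG.TwAut
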